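import Cfsg.Agent.Lib.Coh.FrobDeg
import Cfsg.Agent.Lib.Char.Central

/-!
# Central characters

For a central homomorphism `ι : A → X` and an irreducible character `θ` of `X`, the function
`a ↦ θ (ι a) / θ 1` is a linear character of `A`, and the degrees of the irreducible characters of `X`
over a given central character have squares summing to `|X| / |A|`.
-/

set_option autoImplicit false

namespace Cfsg.Agent.Lib.Coh.CentralChar

open Cfsg
open Cfsg.Agent.Lib.Char.Ortho Cfsg.Agent.Lib.Char.Basic Cfsg.Agent.Lib.Char.Complete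
  Cfsg.Agent.Lib.Char.Degree Cfsg.Agent.Lib.Char.Linear Cfsg.Agent.Lib.Char.Conj
  Cfsg.Agent.Lib.Char.Central Cfsg.Agent.Lib.Char.Induced
  Cfsg.Agent.Lib.Coh.DegSum Cfsg.Agent.Lib.Coh.FrobDeg
open scoped ComplexConjugate

section Central

variable {X : Type*} [Group X] {A : Type*} [Group A] (ι : A →* X)

/-- Central elements act by a linear character. -/
theorem exists_scalar (hι : ∀ a x, ι a * x = x * ι a) {θ : X → ℂ} (hθ : IsIrrCharacter X θ) :
    ∃ ω : A →* ℂˣ, ∀ a g, θ (ι a * g) = (ω a : ℂ) * θ g := by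
  obtain ⟨n, ρ, hirr, rfl⟩ := hθ
  haveI := hirr
  have hnt : Nontrivial (Fin n → ℂ) := nontrivial_of_irreducible ρ
  have h1 : ∀ a, ∃ ω : ℂ, ρ (ι a) = ω • (1 : Module.End ℂ (Fin n → ℂ)) := fun a =>
    center_acts_scalar ρ (ι a) (Subgroup.mem_center_iff.mpr fun g => (hι a g).symm)
  choose ω hω using h1
  obtain ⟨v, hv⟩ := exists_ne (0 : Fin n → ℂ)
  have hinj := smul_left_injective ℂ hv
  have hmul : ∀ a b, ω (a * b) = ω a * ω b := by
    intro a b
    have h2 : ρ (ι (a * b)) = ρ (ι a) * ρ (ι b) := by rw [map_mul, map_mul]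
    rw [hω, hω, hω, smul_mul_smul_comm, mul_one] at h2
    apply hinj
    have := LinearMap.congr_fun h2 v
    simpa using this
  have hone' : ω 1 = 1 := by
    have h2 := hω 1
    rw [map_one, map_one] at h2
    apply hinj
    have := LinearMap.congr_fun h2 v
    simpa using this.symm
  let ω' : A →* ℂ := ⟨⟨ω, hone'⟩, hmul⟩
  refine ⟨MonoidHom.toHomUnits ω', ?_⟩
  intro a g
  rw [MonoidHom.coe_toHomUnits]
  show LinearMap.trace ℂ _ (ρ (ι a * g)) = ω a * LinearMap.trace ℂ _ (ρ g)
  rw [map_mul, hω, smul_mul_assoc, one_mul, map_smul, smul_eq_mul]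

/-- The central character of `θ`. -/
noncomputable def cc (θ : X → ℂ) : A → ℂ := fun a => θ (ι a) / θ 1

variable {ι}

theorem isIrr_cc (hι : ∀ a x, ι a * x = x * ι a) {θ : X → ℂ} (hθ : IsIrrCharacter X θ) :
    IsIrrCharacter A (cc ι θ) := by
  obtain ⟨ω, hω⟩ := exists_scalar ι hι hθ
  have hd : θ 1 ≠ 0 := by
    obtain ⟨n, hn, hn'⟩ := exists_pos_deg_of_isIrr hθ
    rw [hn']
    exact_mod_cast hn.ne'
  have : cc ι θ = fun a => (ω a : ℂ) := by
    funext a
    have := hω a 1
    rw [mul_one] at this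
    simp only [cc, this]
    field_simp
  rw [this]
  exact isIrrCharacter_of_hom ω

theorem deg_ne_zero {θ : X → ℂ} (hθ : IsIrrCharacter X θ) : θ 1 ≠ 0 := by
  obtain ⟨n, hn, hn'⟩ := exists_pos_deg_of_isIrr hθ
  rw [hn']
  exact_mod_cast hn.ne'

theorem value_eq {θ : X → ℂ} (hθ : IsIrrCharacter X θ) (a : A) : θ (ι a) = cc ι θ a * θ 1 := by
  have hd := deg_ne_zero hθ
  simp only [cc]
  field_simp

/-- `θ` restricted to the image of `ι` is a multiple of the central character. -/
theorem value_eq' (hι : ∀ a x, ι a * x = x * ι a) {θ : X → ℂ} (hθ : IsIrrCharacter X θ) (a : A) (g : X) :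
    θ (ι a * g) = cc ι θ a * θ g := by
  obtain ⟨ω, hω⟩ := exists_scalar ι hι hθ
  have hd := deg_ne_zero hθ
  have h2 := hω a 1
  rw [mul_one] at h2
  rw [hω a g]
  simp only [cc, h2]
  field_simp

end Central

section Sum

variable {X : Type*} [Group X] [Fintype X]

theorem sum_deg_mul_value [DecidableEq X] (g : X) :
    ∑ θ ∈ irrFinset X, (charDegree θ : ℂ) * θ g = if g = 1 then (Nat.card X : ℂ) else 0 := by
  classical
  have := finite_irrCharacter (G := X)
  letI : Fintype (IrrCharacter X) := Fintype.ofFinite _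
  have h1 := congrFun (leftRegular_eq_sum (G := X)) g
  rw [character_leftRegular', Finset.sum_apply] at h1
  rw [sum_irrFinset_eq]
  convert h1.symm using 2
  · rename_i χ _
    rw [← charDegree_natCast (isCharacter_of_isIrrCharacter χ.2)]
    simp

variable {A : Type*} [Group A] [Fintype A] {ι : A →* X}

/-- The degree formula over a central character. -/
theorem central_sum (hι : ∀ a x, ι a * x = x * ι a) (hinj : Function.Injective ι) {θ₀ : X → ℂ}
    (hθ₀ : IsIrrCharacter X θ₀) [DecidableEq (A → ℂ)] :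
    Nat.card A * ∑ θ ∈ (irrFinset X).filter (fun θ => cc ι θ = cc ι θ₀), charDegree θ ^ 2 =
      Nat.card X := by
  classical
  have hA : (Nat.card A : ℂ) ≠ 0 := by exact_mod_cast Nat.card_pos.ne'
  have hcc1 : cc ι θ₀ 1 = 1 := by
    simp only [cc, map_one]
    exact div_self (deg_ne_zero hθ₀)
  -- the double sum
  have h1 : ∑ a : A, conj (cc ι θ₀ a) * ∑ θ ∈ irrFinset X, (charDegree θ : ℂ) * θ (ι a) =
      (Nat.card X : ℂ) := by
    have h2 : ∀ a : A, conj (cc ι θ₀ a) * ∑ θ ∈ irrFinset X, (charDegree θ : ℂ) * θ (ι a) =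
        if a = 1 then (Nat.card X : ℂ) else 0 := by
      intro a
      rw [sum_deg_mul_value]
      by_cases ha : a = 1
      · subst ha
        simp [hcc1]
      · have : ι a ≠ 1 := fun h => ha (hinj (by rw [h, map_one]))
        simp [this, ha]
    rw [Finset.sum_congr rfl fun a _ => h2 a]
    simp
  have h3 : ∑ a : A, conj (cc ι θ₀ a) * ∑ θ ∈ irrFinset X, (charDegree θ : ℂ) * θ (ι a) =
      ∑ θ ∈ irrFinset X, (charDegree θ : ℂ) ^ 2 * ((Nat.card A : ℂ) * classInner (cc ι θ) (cc ι θ₀)) := by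
    simp only [Finset.mul_sum]
    rw [Finset.sum_comm]
    refine Finset.sum_congr rfl fun θ hθ => ?_
    have hθi := mem_irrFinset.mp hθ
    rw [classInner_def, mul_inv_cancel_left₀ hA, Finset.mul_sum]
    refine Finset.sum_congr rfl fun a _ => ?_
    rw [value_eq hθi a, ← charDegree_natCast (isCharacter_of_isIrrCharacter hθi)]
    ring
  have h4 : ∀ θ ∈ irrFinset X, (charDegree θ : ℂ) ^ 2 * ((Nat.card A : ℂ) * classInner (cc ι θ) (cc ι θ₀)) =
      (Nat.card A : ℂ) * if cc ι θ = cc ι θ₀ then (charDegree θ : ℂ) ^ 2 else 0 := by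
    intro θ hθ
    have hθi := mem_irrFinset.mp hθ
    rw [classInner_irr (isIrr_cc hι hθi) (isIrr_cc hι hθ₀)]
    by_cases h : cc ι θ = cc ι θ₀
    · simp [h]; ring
    · simp [h]
  rw [h3, Finset.sum_congr rfl h4, ← Finset.mul_sum, ← Finset.sum_filter] at h1
  exact_mod_cast h1

end Sum

end Cfsg.Agent.Lib.Coh.CentralChar
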