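import Cfsg.Agent.Lib.CharDeep.FrobRelevant
import Cfsg.Agent.Lib.Char.Central

/-!
# Frobenius groups with `|H| = [N : H] + 1`
-/

set_option autoImplicit false

namespace Cfsg.Agent.Lib.Coh.FrobCard

open Cfsg
open Cfsg.Agent.Lib.Char.Basic Cfsg.Agent.Lib.Char.Complete Cfsg.Agent.Lib.Char.Degree
  Cfsg.Agent.Lib.Coh.DegSum Cfsg.Agent.Lib.Coh.FrobDeg Cfsg.Agent.Lib.CharDeep.FrobRelevant

variable {N : Type*} [Group N] [Fintype N] {H : Subgroup N}

/-- All non-identity elements of the kernel are conjugate and centralize the kernel. -/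
theorem conj_and_central (hN : H.Normal)
    (hC : ∀ h ∈ H, h ≠ 1 → Subgroup.centralizer ({h} : Set N) ≤ H)
    (he : Nat.card H = H.index + 1) {h₀ : N} (hh₀ : h₀ ∈ H) (h₀1 : h₀ ≠ 1) :
    H ≤ Subgroup.centralizer ({h₀} : Set N) ∧ ∀ h ∈ H, h ≠ 1 → IsConj h₀ h := by
  classical
  set C := Subgroup.centralizer ({h₀} : Set N) with hCdef
  have hCH : C ≤ H := hC h₀ hh₀ h₀1
  set A : Finset N := Finset.univ.filter (fun y => IsConj h₀ y) with hA
  set B : Finset N := (Finset.univ.filter (fun y => y ∈ H)).erase 1 with hB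
  have hAB : A ⊆ B := by
    intro y hy
    have hconj : IsConj h₀ y := (Finset.mem_filter.mp hy).2
    obtain ⟨c, hc⟩ := isConj_iff.mp hconj
    refine Finset.mem_erase.mpr ⟨?_, Finset.mem_filter.mpr ⟨Finset.mem_univ _, ?_⟩⟩
    · rintro rfl
      exact h₀1 (isConj_one_right.mp hconj.symm |> fun h => h)
    · rw [← hc]
      exact hN.conj_mem _ hh₀ c
  have hBcard : B.card = H.index := by
    rw [hB, Finset.card_erase_of_mem (Finset.mem_filter.mpr ⟨Finset.mem_univ _, H.one_mem⟩)]
    have h1 : (Finset.univ.filter (fun y => y ∈ H)).card = Nat.card H := by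
      rw [Nat.card_eq_fintype_card, Fintype.card_subtype]
    rw [h1, he]
    rfl
  have hAcard : A.card = C.index := Cfsg.Agent.Lib.Char.Central.card_filter_isConj h₀
  have hle : C.index ≤ H.index := by
    rw [← hAcard, ← hBcard]
    exact Finset.card_le_card hAB
  have hrel := Subgroup.relIndex_mul_index hCH
  have he0 : 0 < H.index := Nat.pos_of_ne_zero Subgroup.index_ne_zero_of_finite
  have hCi0 : 0 < C.index := Nat.pos_of_ne_zero Subgroup.index_ne_zero_of_finite
  have hrel1 : C.relIndex H = 1 := by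
    have h1 : 0 < C.relIndex H := by
      apply Nat.pos_of_ne_zero
      intro h0
      rw [h0, zero_mul] at hrel
      omega
    have h2 : C.relIndex H * H.index ≤ 1 * H.index := by
      rw [hrel, one_mul]
      exact hle
    have h3 := Nat.le_of_mul_le_mul_right h2 he0
    omega
  refine ⟨Subgroup.relIndex_eq_one.mp hrel1, ?_⟩
  have hCeq : C.index = H.index := by
    rw [← hrel, hrel1, one_mul]
  have hABeq : A = B := Finset.eq_of_subset_of_card_le hAB (by rw [hAcard, hBcard, hCeq])
  intro h hh hh1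
  have h1 : h ∈ B := Finset.mem_erase.mpr ⟨hh1, Finset.mem_filter.mpr ⟨Finset.mem_univ _, hh⟩⟩
  rw [← hABeq] at h1
  exact (Finset.mem_filter.mp h1).2

/-- The kernel is elementary abelian. -/
theorem elementary (hN : H.Normal) (hC : ∀ h ∈ H, h ≠ 1 → Subgroup.centralizer ({h} : Set N) ≤ H)
    (hH1 : H ≠ ⊥) (he : Nat.card H = H.index + 1) :
    IsMulCommutative H ∧ ∃ q : ℕ, q.Prime ∧ q ∣ Nat.card H ∧ ∀ h ∈ H, h ^ q = 1 := by
  classical
  constructor
  · refine ⟨⟨fun a b => ?_⟩⟩
    by_cases ha : (a : N) = 1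
    · have : a = 1 := Subtype.ext ha
      rw [this, one_mul, mul_one]
    · have h1 := (conj_and_central hN hC he a.2 ha).1 b.2
      rw [Subgroup.mem_centralizer_singleton_iff] at h1
      exact Subtype.ext h1.symm
  · have hcard1 : Nat.card H ≠ 1 := fun h => hH1 ((Subgroup.eq_bot_iff_card H).mpr h)
    obtain ⟨q, hq, hqd⟩ := Nat.exists_prime_and_dvd hcard1
    haveI : Fact q.Prime := ⟨hq⟩
    obtain ⟨x, hx⟩ := exists_prime_orderOf_dvd_card' q hqd
    refine ⟨q, hq, hqd, fun h hh => ?_⟩
    by_cases h1 : h = 1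
    · rw [h1, one_pow]
    · have hx1 : (x : N) ≠ 1 := by
        intro h2
        have : x = 1 := Subtype.ext h2
        rw [this, orderOf_one] at hx
        exact hq.one_lt.ne hx
      have h2 := (conj_and_central hN hC he x.2 hx1).2 h hh h1
      have h3 : orderOf h = q := by
        obtain ⟨c, hc⟩ := isConj_iff.mp h2
        have h4 := orderOf_injective (MulAut.conj c).toMonoidHom (MulAut.conj c).injective (x : N)
        have h5 : (MulAut.conj c).toMonoidHom (x : N) = h := by
          rw [← hc]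
          rfl
        rw [← hx, ← Subgroup.orderOf_coe x, ← h5, h4]
      rw [← h3, pow_orderOf_eq_one]

/-- There is exactly one character nontrivial on the kernel. -/
theorem card_nontrivOn (hN : H.Normal) (hC : ∀ h ∈ H, h ≠ 1 → Subgroup.centralizer ({h} : Set N) ≤ H)
    (he : Nat.card H = H.index + 1) : (nontrivOn H).card = 1 := by
  classical
  set e := H.index with hedef
  have he0 : 0 < e := Nat.pos_of_ne_zero Subgroup.index_ne_zero_of_finite
  have h1 := sum_irrFinset_sq (X := N)
  rw [sum_split (H := H)] at h1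
  have h2 : ∑ θ ∈ trivOn H, charDegree θ ^ 2 = e := by
    have h3 := sum_trivOn_sq hN hC
    have h4 : ((∑ θ ∈ trivOn H, charDegree θ ^ 2 : ℕ) : ℂ) = (e : ℂ) := by
      rw [← h3]
      push_cast
      refine Finset.sum_congr rfl fun θ hθ => ?_
      rw [charDegree_natCast (isCharacter_of_isIrrCharacter (mem_trivOn.mp hθ).1), sq]
    exact_mod_cast h4
  have hcardN : Nat.card N = (e + 1) * e := by
    rw [← he]
    exact (Subgroup.card_mul_index H).symm
  have h3 : ∑ θ ∈ nontrivOn H, charDegree θ ^ 2 = e ^ 2 := by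
    rw [h2, hcardN] at h1
    nlinarith
  have h4 : ∀ θ ∈ nontrivOn H, e ^ 2 ≤ charDegree θ ^ 2 := by
    intro θ hθ
    rw [charDegree_eq hN hC hθ]
    have h5 := rdeg_pos hN hC hθ
    apply Nat.pow_le_pow_left
    exact Nat.le_mul_of_pos_right _ h5
  have h5 : (nontrivOn H).card * e ^ 2 ≤ e ^ 2 := by
    calc (nontrivOn H).card * e ^ 2 = ∑ _θ ∈ nontrivOn H, e ^ 2 := by
          rw [Finset.sum_const, smul_eq_mul]
      _ ≤ ∑ θ ∈ nontrivOn H, charDegree θ ^ 2 := Finset.sum_le_sum h4
      _ = e ^ 2 := h3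
  have he2 : 0 < e ^ 2 := by positivity
  have h6 : (nontrivOn H).card ≤ 1 := by
    have := Nat.le_of_mul_le_mul_right (by simpa using h5 : (nontrivOn H).card * e ^ 2 ≤ 1 * e ^ 2) he2
    exact this
  have h7 : (nontrivOn H).card ≠ 0 := by
    intro h0
    rw [Finset.card_eq_zero] at h0
    rw [h0, Finset.sum_empty] at h3
    omega
  omega

end Cfsg.Agent.Lib.Coh.FrobCard
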