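import Cfsg.Agent.Lib.Coh.CentralChar
import Cfsg.Agent.Lib.Coh.ByDegree
import Cfsg.Agent.Lib.Char.RealChar

/-!
# Coherence of characters lying over a nontrivial central character of a Frobenius kernel
-/

set_option autoImplicit false

namespace Cfsg.Agent.Lib.Coh.FrobCentral

open Cfsg
open Cfsg.Agent.Lib.Char.Ortho Cfsg.Agent.Lib.Char.Basic Cfsg.Agent.Lib.Char.Complete
  Cfsg.Agent.Lib.Char.Degree Cfsg.Agent.Lib.Char.Linear Cfsg.Agent.Lib.Char.Conj
  Cfsg.Agent.Lib.Char.Induced Cfsg.Agent.Lib.Coh.Basic Cfsg.Agent.Lib.Char.RealChar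
  Cfsg.Agent.Lib.Coh.DegSum Cfsg.Agent.Lib.Coh.FrobDeg Cfsg.Agent.Lib.Coh.CentralChar
open scoped ComplexConjugate

variable {N : Type*} [Group N] [Fintype N] {H : Subgroup N}

section

variable (hN : H.Normal) (hC : ∀ h ∈ H, h ≠ 1 → Subgroup.centralizer ({h} : Set N) ≤ H)
  {Z : Subgroup N} (hZn : Z.Normal) (hZH : Z ≤ H) (hZc : ∀ z ∈ Z, ∀ h ∈ H, z * h = h * z)

include hZc in
theorem central_incl (a : Z) (x : H) :
    Subgroup.inclusion hZH a * x = x * Subgroup.inclusion hZH a := by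
  apply Subtype.ext
  exact hZc a a.2 x x.2

/-- Central characters of a character and its `N`-conjugates. -/
theorem cc_conjOn (g : N) (θ : H → ℂ) (z : Z) :
    cc (Subgroup.inclusion hZH) (conjOn hN g θ) z =
      conjOn hZn g (cc (Subgroup.inclusion hZH) θ) z := by
  simp only [cc, conjOn_apply]
  congr 2
  apply Subtype.ext
  simp

include hN hC hZn hZc in
/-- Induction is injective on the irreducible characters over a nontrivial central character. -/
theorem ind_inj {θ θ' : H → ℂ} (hθ : IsIrrCharacter H θ) (hθ' : IsIrrCharacter H θ')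
    (hcc : cc (Subgroup.inclusion hZH) θ = cc (Subgroup.inclusion hZH) θ')
    (h1 : cc (Subgroup.inclusion hZH) θ ≠ fun _ => 1) (hind : indFun H θ = indFun H θ') : θ = θ' := by
  classical
  letI : Fintype H := Fintype.ofFinite _
  have hθ1 : θ ≠ fun _ => 1 := by
    rintro rfl
    apply h1
    funext z
    simp [cc]
  have hirr := isIrr_ind hN hC hθ hθ1
  have h2 : classInner (indFun H θ) (indFun H θ') = 1 := by
    rw [← hind]
    exact classInner_self_of_isIrr hirr
  rw [classInner_indFun_indFun_of_normal hN] at h2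
  have h3 : ∃ x : N, classInner θ (conjOn hN x⁻¹ θ') ≠ 0 := by
    by_contra hall
    push Not at hall
    rw [Finset.sum_eq_zero fun x _ => hall x, mul_zero] at h2
    exact zero_ne_one h2
  obtain ⟨x, hx⟩ := h3
  have h4 : θ = conjOn hN x⁻¹ θ' := by
    by_contra hne
    exact hx (classInner_eq_zero_of_isIrr_of_ne hθ (isIrrCharacter_conjOn hN _ hθ') hne)
  have hι := central_incl hZH hZc
  have h5 : conjOn hZn x⁻¹ (cc (Subgroup.inclusion hZH) θ') = cc (Subgroup.inclusion hZH) θ' := by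
    funext z
    rw [← cc_conjOn hN hZn hZH x⁻¹ θ' z, ← h4, hcc]
  have h6 : x⁻¹ ∈ H := mem_of_fixed hC hZn hZH (isIrr_cc hι hθ') (by rwa [← hcc]) h5
  rw [h4, conjOn_of_mem hN (isClassFunction_of_isIrrCharacter hθ') h6]

/-- The degrees of a `p`-group are powers of `p`. -/
theorem deg_pow {p : ℕ} (hp : p.Prime) (hH : IsPGroup p H) {θ : H → ℂ} (hθ : IsIrrCharacter H θ) :
    ∃ k, charDegree θ = p ^ k := by
  have : Fact p.Prime := ⟨hp⟩
  obtain ⟨n, hn⟩ := IsPGroup.iff_card.mp hH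
  have h1 := charDegree_dvd_card hθ
  rw [hn] at h1
  obtain ⟨k, _, hk⟩ := (Nat.dvd_prime_pow hp).mp h1
  exact ⟨k, hk⟩

theorem deg_dvd {p : ℕ} (hp : p.Prime) (hH : IsPGroup p H) {θ θ' : H → ℂ} (hθ : IsIrrCharacter H θ)
    (hθ' : IsIrrCharacter H θ') (hle : charDegree θ ≤ charDegree θ') : charDegree θ ∣ charDegree θ' := by
  obtain ⟨k, hk⟩ := deg_pow hp hH hθ
  obtain ⟨k', hk'⟩ := deg_pow hp hH hθ'
  rw [hk, hk'] at hle ⊢
  exact pow_dvd_pow p ((Nat.pow_le_pow_iff_right hp.one_lt).mp hle)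

include hN hC hZn hZc in
open Classical in
/-- The lower bound for the sum of the squares of the degrees of lower degree members of `Q`. -/
theorem lower_bound {p : ℕ} (hp : p.Prime) (hH : IsPGroup p H) {θ₀ : H → ℂ} (hθ₀ : IsIrrCharacter H θ₀)
    (h₀ : cc (Subgroup.inclusion hZH) θ₀ ≠ fun _ => 1) (Q : Finset (N → ℂ))
    (hQ : ∀ θ : H → ℂ, IsIrrCharacter H θ →
      cc (Subgroup.inclusion hZH) θ = cc (Subgroup.inclusion hZH) θ₀ → indFun H θ ∈ Q)
    {θ : H → ℂ} (hθ : IsIrrCharacter H θ) (hf : charDegree θ₀ < charDegree θ) :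
    (H.index * charDegree θ) ^ 2 ≤
      ∑ ξ ∈ Q.filter (fun ξ => charDegree ξ < H.index * charDegree θ), charDegree ξ ^ 2 := by
  letI : Fintype H := Fintype.ofFinite _
  letI : Fintype Z := Fintype.ofFinite _
  set f := charDegree θ with hfdef
  set e := H.index with he
  have he0 : 0 < e := Nat.pos_of_ne_zero Subgroup.index_ne_zero_of_finite
  have hι := central_incl hZH hZc
  have hinj : Function.Injective (Subgroup.inclusion hZH) := Subgroup.inclusion_injective hZH
  set A := (irrFinset H).filter (fun α => cc (Subgroup.inclusion hZH) α = cc (Subgroup.inclusion hZH) θ₀)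
    with hA
  have hs₀ := central_sum hι hinj hθ₀
  have hs₁ := central_sum hι hinj hθ
  have hZ0 : 0 < Nat.card Z := Nat.card_pos
  have hsum : ∑ α ∈ A, charDegree α ^ 2 = ∑ α ∈ (irrFinset H).filter
      (fun α => cc (Subgroup.inclusion hZH) α = cc (Subgroup.inclusion hZH) θ), charDegree α ^ 2 :=
    Nat.eq_of_mul_eq_mul_left hZ0 (by
      rw [hA]
      convert hs₀.trans hs₁.symm)
  have hfle : f ^ 2 ≤ ∑ α ∈ A, charDegree α ^ 2 := by
    rw [hsum]
    exact Finset.single_le_sum (f := fun α => charDegree α ^ 2) (fun _ _ => Nat.zero_le _)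
      (Finset.mem_filter.mpr ⟨mem_irrFinset.mpr hθ, rfl⟩)
  -- `f²` divides the sum
  have hdvd1 : f ^ 2 ∣ ∑ α ∈ A, charDegree α ^ 2 := by
    have : Fact p.Prime := ⟨hp⟩
    obtain ⟨n, hn⟩ := IsPGroup.iff_card.mp hH
    have h1 : ∑ α ∈ A, charDegree α ^ 2 ∣ p ^ n := by
      rw [← hn]
      exact Dvd.intro_left _ (by convert hs₀)
    obtain ⟨k, _, hk⟩ := (Nat.dvd_prime_pow hp).mp h1
    obtain ⟨a, ha⟩ := deg_pow hp hH hθ
    have h2 : f = p ^ a := ha
    rw [h2, hk, ← pow_mul] at hfle ⊢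
    exact pow_dvd_pow p ((Nat.pow_le_pow_iff_right hp.one_lt).mp hfle)
  have hsplit := Finset.sum_filter_add_sum_filter_not A (fun α => charDegree α < f)
    (fun α => charDegree α ^ 2)
  have hdvd2 : f ^ 2 ∣ ∑ α ∈ A.filter (fun α => ¬ charDegree α < f), charDegree α ^ 2 := by
    refine Finset.dvd_sum fun α hα => ?_
    obtain ⟨hαA, hα2⟩ := Finset.mem_filter.mp hα
    have hαi := mem_irrFinset.mp (Finset.mem_filter.mp hαA).1
    exact pow_dvd_pow_of_dvd (deg_dvd hp hH hθ hαi (not_lt.mp hα2)) 2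
  have hdvd3 : f ^ 2 ∣ ∑ α ∈ A.filter (fun α => charDegree α < f), charDegree α ^ 2 := by
    rw [← hsplit] at hdvd1
    exact (Nat.dvd_add_left hdvd2).mp hdvd1
  have hpos : 0 < ∑ α ∈ A.filter (fun α => charDegree α < f), charDegree α ^ 2 := by
    refine Finset.sum_pos' (fun _ _ => Nat.zero_le _) ⟨θ₀, ?_, ?_⟩
    · exact Finset.mem_filter.mpr ⟨Finset.mem_filter.mpr ⟨mem_irrFinset.mpr hθ₀, rfl⟩, hf⟩
    · exact pow_pos (charDegree_pos hθ₀) 2
  have hle := Nat.le_of_dvd hpos hdvd3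
  -- the induced characters
  have hAi : ∀ α ∈ A.filter (fun α => charDegree α < f), IsIrrCharacter H α ∧
      cc (Subgroup.inclusion hZH) α = cc (Subgroup.inclusion hZH) θ₀ := by
    intro α hα
    obtain ⟨h1, -⟩ := Finset.mem_filter.mp hα
    obtain ⟨h2, h3⟩ := Finset.mem_filter.mp h1
    exact ⟨mem_irrFinset.mp h2, h3⟩
  have himg : ∑ ξ ∈ (A.filter (fun α => charDegree α < f)).image (indFun H), charDegree ξ ^ 2 =
      ∑ α ∈ A.filter (fun α => charDegree α < f), charDegree (indFun H α) ^ 2 := by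
    apply Finset.sum_image
    intro α hα α' hα' h
    obtain ⟨h1, h2⟩ := hAi α hα
    obtain ⟨h3, h4⟩ := hAi α' hα'
    exact ind_inj hN hC hZn hZH hZc h1 h3 (h2.trans h4.symm) (by rwa [h2]) h
  have hsub : (A.filter (fun α => charDegree α < f)).image (indFun H) ⊆
      Q.filter (fun ξ => charDegree ξ < e * f) := by
    intro ξ hξ
    obtain ⟨α, hα, rfl⟩ := Finset.mem_image.mp hξ
    obtain ⟨h1, h2⟩ := hAi α hα
    refine Finset.mem_filter.mpr ⟨hQ α h1 h2, ?_⟩
    rw [charDegree_ind (isCharacter_of_isIrrCharacter h1)]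
    exact Nat.mul_lt_mul_of_le_of_lt le_rfl (Finset.mem_filter.mp hα).2 he0
  calc (e * f) ^ 2 = e ^ 2 * f ^ 2 := by ring
    _ ≤ e ^ 2 * ∑ α ∈ A.filter (fun α => charDegree α < f), charDegree α ^ 2 :=
        Nat.mul_le_mul_left _ hle
    _ = ∑ α ∈ A.filter (fun α => charDegree α < f), charDegree (indFun H α) ^ 2 := by
        rw [Finset.mul_sum]
        refine Finset.sum_congr rfl fun α hα => ?_
        rw [charDegree_ind (isCharacter_of_isIrrCharacter (hAi α hα).1)]
        ring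
    _ = ∑ ξ ∈ (A.filter (fun α => charDegree α < f)).image (indFun H), charDegree ξ ^ 2 := himg.symm
    _ ≤ _ := Finset.sum_le_sum_of_subset_of_nonneg hsub (fun _ _ _ => Nat.zero_le _)

include hN hC hZn hZc in
open Classical in
/-- Lemma C1: coherence of a set of characters containing all those over a central character of
minimal degree. -/
theorem coherent_of_central {G : Type*} [Group G] [Fintype G] {p : ℕ} (hp : p.Prime) (hp3 : 3 ≤ p)
    (hH : IsPGroup p H) (hodd : Odd (Nat.card N)) {θ₀ : H → ℂ} (hθ₀ : IsIrrCharacter H θ₀)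
    (h₀ : cc (Subgroup.inclusion hZH) θ₀ ≠ fun _ => 1) (Q : Finset (N → ℂ))
    (hQS : Q ⊆ nontrivOn H)
    (hQ : ∀ θ : H → ℂ, IsIrrCharacter H θ →
      cc (Subgroup.inclusion hZH) θ = cc (Subgroup.inclusion hZH) θ₀ → indFun H θ ∈ Q)
    (hQc : conjFun (indFun H θ₀) ∈ Q)
    (hmin : ∀ χ ∈ Q, H.index * charDegree θ₀ ≤ charDegree χ)
    (τ : (N → ℂ) → (G → ℂ)) (hτ : IsLinearIsometryOn (zspanOn (↑Q : Set (N → ℂ)) {1}ᶜ) τ)
    (hτ1 : ∀ α ∈ zspanOn (↑Q : Set (N → ℂ)) {1}ᶜ, τ α 1 = 0) :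
    IsCoherent (↑Q : Set (N → ℂ)) {1}ᶜ τ := by
  letI : Fintype H := Fintype.ofFinite _
  have hirr : ∀ ξ ∈ Q, IsIrrCharacter N ξ := fun ξ hξ => (mem_nontrivOn.mp (hQS hξ)).1
  have he0 : 0 < H.index := Nat.pos_of_ne_zero Subgroup.index_ne_zero_of_finite
  have hθ₀1 : θ₀ ≠ fun _ => 1 := by
    rintro rfl
    apply h₀
    funext z
    simp [cc]
  have hχ₀ : indFun H θ₀ ∈ Q := hQ θ₀ hθ₀ rfl
  have hdeg₀ : charDegree (indFun H θ₀) = H.index * charDegree θ₀ :=
    charDegree_ind (isCharacter_of_isIrrCharacter hθ₀)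
  have hne : indFun H θ₀ ≠ conjFun (indFun H θ₀) := by
    intro h
    have hi := hirr _ hχ₀
    have hreal : ∀ g : N, (indFun H θ₀ g).im = 0 := by
      intro g
      have h1 := congrFun h g
      simp only [conjFun] at h1
      exact Complex.conj_eq_iff_im.mp h1.symm
    have h1 := eq_one_of_real_of_odd hodd hi hreal
    obtain ⟨-, h0, hh0, hne⟩ := mem_nontrivOn.mp (hQS hχ₀)
    rw [h1] at hne
    exact hne rfl
  refine Cfsg.Agent.Lib.Coh.ByDegree.coherent_by_degree Q hirr charDegree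
    (fun ξ hξ => (charDegree_natCast (isCharacter_of_isIrrCharacter (hirr ξ hξ))).symm)
    (H.index * charDegree θ₀) ⟨_, hχ₀, _, hQc, hne, hdeg₀, ?_⟩ τ hτ hτ1 hmin ?_
  · have h1 : conjFun (indFun H θ₀) 1 = (H.index * charDegree θ₀ : ℕ) := by
      have h2 := charDegree_natCast (isCharacter_of_isIrrCharacter (hirr _ hχ₀))
      rw [hdeg₀] at h2
      simp only [conjFun]
      rw [← h2]
      simp
    exact charDegree_eq_of_eq_natCast h1
  · intro χ hχ hlt
    obtain ⟨θ, hθ, hθ1, rfl⟩ := exists_ind hN hC (hQS hχ)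
    rw [charDegree_ind (isCharacter_of_isIrrCharacter hθ)] at hlt ⊢
    have hf : charDegree θ₀ < charDegree θ := Nat.lt_of_mul_lt_mul_left hlt
    have hdv := deg_dvd hp hH hθ₀ hθ hf.le
    refine ⟨Nat.mul_dvd_mul_left _ hdv, ?_⟩
    have hb := lower_bound hN hC hZn hZH hZc hp hH hθ₀ h₀ Q hQ hθ hf
    refine lt_of_lt_of_le ?_ hb
    -- `f ≥ 3 f₀`
    obtain ⟨a, ha⟩ := deg_pow hp hH hθ₀
    obtain ⟨b, hb'⟩ := deg_pow hp hH hθ
    have hab : a < b := by
      rw [ha, hb'] at hf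
      exact (Nat.pow_lt_pow_iff_right hp.one_lt).mp hf
    have h3 : 3 * charDegree θ₀ ≤ charDegree θ := by
      rw [ha, hb']
      calc 3 * p ^ a ≤ p * p ^ a := Nat.mul_le_mul_right _ hp3
        _ = p ^ (a + 1) := by ring
        _ ≤ p ^ b := Nat.pow_le_pow_right hp.pos hab
    have hpos := charDegree_pos hθ
    have hpos₀ := charDegree_pos hθ₀
    calc 2 * (H.index * charDegree θ₀) * (H.index * charDegree θ)
        = H.index ^ 2 * (2 * charDegree θ₀ * charDegree θ) := by ring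
      _ < H.index ^ 2 * (charDegree θ * charDegree θ) := by
          apply Nat.mul_lt_mul_of_le_of_lt le_rfl _ (by positivity)
          apply Nat.mul_lt_mul_of_pos_right _ hpos
          omega
      _ = _ := by ring

end

end Cfsg.Agent.Lib.Coh.FrobCentral
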