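import Cfsg.Agent.Lib.Coh.Union
import Cfsg.Agent.Lib.Coh.System

/-!
# Isometries on a pair of characters, and the arithmetic of the extension step
-/

set_option autoImplicit false

namespace Cfsg.Agent.Lib.Coh.PairExt

open Cfsg
open Cfsg.Agent.Lib.Char.Ortho Cfsg.Agent.Lib.Char.Basic Cfsg.Agent.Lib.Char.Complete
  Cfsg.Agent.Lib.Char.GenLattice Cfsg.Agent.Lib.Coh.Basic
open scoped ComplexConjugate

variable {L G : Type*} [Group L] [Fintype L] [Group G] [Fintype G]

/-- An isometry on `ℤ{χ, χ'}` with prescribed values. -/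
theorem pair_iso {χ χ' : L → ℂ} (hχ : IsIrrCharacter L χ) (hχ' : IsIrrCharacter L χ') (hne : χ ≠ χ')
    (hdeg : χ 1 = χ' 1) {a b : G → ℂ} (ha : IsGeneralizedCharacter G a)
    (hb : IsGeneralizedCharacter G b) (han : classInner a a = 1) (hbn : classInner b b = 1)
    (hab : classInner a b = 0) {τ : (L → ℂ) → (G → ℂ)} (hτ : ∀ s : ℤ, τ (s • (χ - χ')) = s • (a - b)) :
    ∃ σ : (L → ℂ) → (G → ℂ), IsLinearIsometryOn (zspan {χ, χ'}) σ ∧ σ χ = a ∧ σ χ' = b ∧
      ∀ θ ∈ zspanOn {χ, χ'} ({1}ᶜ : Set L), σ θ = τ θ := by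
  classical
  have hne0 : ∀ {ξ : L → ℂ}, IsIrrCharacter L ξ → ξ ≠ 0 := by
    intro ξ hξ h0
    have := classInner_self_of_isIrr hξ
    rw [h0, classInner_zero_left] at this
    exact zero_ne_one this
  have hba : classInner b a = 0 := by rw [← classInner_conj, hab, map_zero]
  obtain ⟨σ, hσ, hσb⟩ := exists_isometry_of_orthogonal ({χ, χ'} : Finset (L → ℂ))
    (fun ξ => if ξ = χ then a else b)
    (by
      intro ξ hξ
      have h1 : ξ = χ ∨ ξ = χ' := by simpa using hξ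
      rcases h1 with h1 | h1 <;> rw [h1]
      · exact hne0 hχ
      · exact hne0 hχ')
    (by
      intro ξ hξ ξ' hξ' h
      have h1 : ξ = χ ∨ ξ = χ' := by simpa using hξ
      have h2 : ξ' = χ ∨ ξ' = χ' := by simpa using hξ'
      rcases h1 with h1 | h1 <;> rcases h2 with h2 | h2 <;> rw [h1, h2] at h ⊢
      · exact absurd rfl h
      · exact classInner_eq_zero_of_isIrr_of_ne hχ hχ' h
      · exact classInner_eq_zero_of_isIrr_of_ne hχ' hχ h
      · exact absurd rfl h)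
    (by
      intro ξ hξ
      by_cases h : ξ = χ
      · simpa [h] using ha
      · simpa [h] using hb)
    (by
      intro ξ hξ ξ' hξ'
      have h1 : ξ = χ ∨ ξ = χ' := by simpa using hξ
      have h2 : ξ' = χ ∨ ξ' = χ' := by simpa using hξ'
      rcases h1 with h1 | h1 <;> rcases h2 with h2 | h2 <;> rw [h1, h2]
      · simp only [if_true, han, classInner_self_of_isIrr hχ]
      · simp only [if_true, if_neg hne.symm, hab, classInner_eq_zero_of_isIrr_of_ne hχ hχ' hne]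
      · simp only [if_true, if_neg hne.symm, hba, classInner_eq_zero_of_isIrr_of_ne hχ' hχ hne.symm]
      · simp only [if_neg hne.symm, hbn, classInner_self_of_isIrr hχ'])
  have hset : (↑({χ, χ'} : Finset (L → ℂ)) : Set (L → ℂ)) = {χ, χ'} := by
    simp
  rw [hset] at hσ
  have hσ' : IsLinearIsometryOn ((zspanS {χ, χ'} : Submodule ℤ (L → ℂ)) : Set (L → ℂ)) σ := hσ
  have h1 : σ χ = a := by
    rw [hσb χ (by simp), if_pos rfl]
  have h2 : σ χ' = b := by
    rw [hσb χ' (by simp), if_neg hne.symm]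
  have hχm : χ ∈ zspan ({χ, χ'} : Set (L → ℂ)) := subset_zspan (by simp)
  have hχm' : χ' ∈ zspan ({χ, χ'} : Set (L → ℂ)) := subset_zspan (by simp)
  refine ⟨σ, hσ, h1, h2, ?_⟩
  intro θ hθ
  obtain ⟨h3, h4⟩ := mem_zspanOn_compl_one.mp hθ
  obtain ⟨s, t, rfl⟩ := Submodule.mem_span_pair.mp h3
  obtain ⟨n, hn0, hn⟩ := exists_pos_deg_of_isIrr hχ
  have h5 : ((s + t : ℤ) : ℂ) * χ 1 = 0 := by
    simp only [Pi.add_apply, zsmul_apply'] at h4
    rw [← hdeg] at h4
    push_cast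
    linear_combination h4
  have h6 : χ 1 ≠ 0 := by
    rw [hn]
    exact_mod_cast hn0.ne'
  have h7 : s + t = 0 := by
    have := (mul_eq_zero.mp h5).resolve_right h6
    exact_mod_cast this
  have h8 : t = -s := by omega
  subst h8
  have h9 : s • χ + (-s) • χ' = s • (χ - χ') := by module
  rw [iso_add hσ' (Submodule.smul_mem _ _ hχm) (Submodule.smul_mem _ _ hχm'), iso_zsmul hσ hχm,
    iso_zsmul hσ hχm', h1, h2, h9, hτ]
  module

/-- The arithmetic: `2 a y² + a² M + y² E ≤ 0`, `M ≥ 2 y²`, `E ≥ 0`. -/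
theorem arith {a y M E : ℤ} (hy : 0 < y) (hM : 2 * y ^ 2 ≤ M) (hE : 0 ≤ E)
    (h : 2 * a * y ^ 2 + a ^ 2 * M + y ^ 2 * E ≤ 0) : E = 0 ∧ (a = 0 ∨ (a = -1 ∧ M = 2 * y ^ 2)) := by
  have hy2 : 0 < y ^ 2 := by positivity
  have hMpos : 0 < M := by linarith
  rcases lt_trichotomy a 0 with ha | ha | ha
  · -- `a ≤ -1`
    have h1 : 0 ≤ a * (a + 1) := by
      have : a + 1 ≤ 0 := by omega
      nlinarith
    have h2 : 0 ≤ a ^ 2 * (M - 2 * y ^ 2) := by
      apply mul_nonneg (by positivity)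
      linarith
    have h3 : 0 ≤ y ^ 2 * E := by positivity
    have h4 : 0 ≤ 2 * (a * (a + 1)) * y ^ 2 := by positivity
    have h5 : 2 * a * y ^ 2 + a ^ 2 * M + y ^ 2 * E =
        2 * (a * (a + 1)) * y ^ 2 + a ^ 2 * (M - 2 * y ^ 2) + y ^ 2 * E := by ring
    rw [h5] at h
    have h6 : y ^ 2 * E = 0 := by linarith
    have h7 : a ^ 2 * (M - 2 * y ^ 2) = 0 := by linarith
    have h8 : 2 * (a * (a + 1)) * y ^ 2 = 0 := by linarith
    have h9 : E = 0 := (mul_eq_zero.mp h6).resolve_left hy2.ne'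
    refine ⟨h9, Or.inr ?_⟩
    have hane : a ^ 2 ≠ 0 := by
      have : a ≠ 0 := ha.ne
      positivity
    have h10 : M - 2 * y ^ 2 = 0 := (mul_eq_zero.mp h7).resolve_left hane
    have h11 : a * (a + 1) = 0 := by
      have h12 : (2 * (a * (a + 1))) = 0 := (mul_eq_zero.mp h8).resolve_right hy2.ne'
      linarith
    have h12 : a + 1 = 0 := (mul_eq_zero.mp h11).resolve_left ha.ne
    exact ⟨by omega, by linarith⟩
  · subst ha
    simp only [mul_zero, zero_mul, ne_eq, OfNat.ofNat_ne_zero, not_false_eq_true, zero_pow, zero_add] at h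
    have h1 : y ^ 2 * E = 0 := le_antisymm h (by positivity)
    exact ⟨(mul_eq_zero.mp h1).resolve_left hy2.ne', Or.inl rfl⟩
  · exfalso
    have h1 : 0 < 2 * a * y ^ 2 := by positivity
    have h2 : 0 ≤ a ^ 2 * M := by positivity
    have h3 : 0 ≤ y ^ 2 * E := by positivity
    linarith

/-- The square-norm expansion used in the extension step. -/
theorem sum_sq_expand {ι : Type*} [DecidableEq ι] (T : Finset ι) (d : ι → ℤ) (i₀ : ι) (hi₀ : i₀ ∈ T)
    (a y : ℤ) (hy : d i₀ = y) :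
    ∑ i ∈ T, ((if i = i₀ then y else 0) + d i * a) ^ 2 =
      y ^ 2 + 2 * a * y ^ 2 + a ^ 2 * ∑ i ∈ T, d i ^ 2 := by
  have h1 : ∀ i ∈ T, ((if i = i₀ then y else 0) + d i * a) ^ 2 =
      (if i = i₀ then y ^ 2 + 2 * a * y ^ 2 else 0) + a ^ 2 * d i ^ 2 := by
    intro i _
    by_cases h : i = i₀
    · subst h
      simp only [if_true, hy]
      ring
    · simp only [if_neg h]
      ring
  rw [Finset.sum_congr rfl h1, Finset.sum_add_distrib, Finset.sum_ite_eq' T i₀, if_pos hi₀,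
    Finset.mul_sum]

end Cfsg.Agent.Lib.Coh.PairExt
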