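import Cfsg.Agent.Lib.Coh.SylowCentral
import Cfsg.Agent.Lib.Coh.PairExt
import Cfsg.Agent.Lib.Coh.Extension
import Cfsg.Agent.Lib.Coh.EqualDeg
import Cfsg.Agent.Lib.Coh2.Frob
import Cfsg.Agent.S1523

/-!
# Sibley's coherence theorem for TI Sylow subgroups with Frobenius normalizer
-/

set_option autoImplicit false

namespace Cfsg.Agent.Lib.Coh.Sibley

open Cfsg
open Cfsg.Agent.Lib.Char.Ortho Cfsg.Agent.Lib.Char.Basic Cfsg.Agent.Lib.Char.Complete
  Cfsg.Agent.Lib.Char.Degree Cfsg.Agent.Lib.Char.Linear Cfsg.Agent.Lib.Char.Conj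
  Cfsg.Agent.Lib.Char.Induced Cfsg.Agent.Lib.Coh.Basic Cfsg.Agent.Lib.Char.GenLattice
  Cfsg.Agent.Lib.Coh.DegSum Cfsg.Agent.Lib.Coh.FrobDeg Cfsg.Agent.Lib.Coh.CentralChar
  Cfsg.Agent.Lib.Coh.FrobCentral Cfsg.Agent.Lib.Char.IndSpan Cfsg.Agent.Lib.Coh.SylowCentral
  Cfsg.Agent.Lib.CharDeep.TIFNRel Cfsg.Agent.Lib.CharDeep.FrobRelevant
open scoped ComplexConjugate

variable {G : Type*} [Group G] [Fintype G] {p : ℕ} [Fact p.Prime] (P : Sylow p G)
  [Fintype ↥(Subgroup.normalizer ((P : Subgroup G) : Set G))]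

local notation "K" => (P : Subgroup G)
local notation "NN" => Subgroup.normalizer (((P : Subgroup G) : Set G))
local notation "HH" => Subgroup.subgroupOf (P : Subgroup G) (Subgroup.normalizer (((P : Subgroup G) : Set G)))

/-- The hypotheses on the central subgroup `Z`. -/
structure CentralData (Z : Subgroup G) : Prop where
  ne_bot : Z ≠ ⊥
  le : ∀ z ∈ Z, z ∈ K
  comm : ∀ z ∈ Z, ∀ y ∈ K, z * y = y * z
  conj_mem : ∀ x ∈ NN, ∀ z ∈ Z, x * z * x⁻¹ ∈ Z

/-- The integrality of the multiplicities, from the congruence of S1523. -/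
theorem exists_k (hTI : IsTISubset (K : Set G)) (hodd : Odd (Nat.card NN))
    (hC : ∀ k ∈ K, k ≠ 1 → Subgroup.centralizer ({k} : Set G) ≤ K)
    {Z : Subgroup G} (hZ : CentralData P Z)
    (T : Finset (NN → ℂ)) (hTS : T ⊆ nontrivOn HH) (hZT : nontrivOn (Z.subgroupOf NN) ⊆ T)
    (hT0 : T.Nonempty) {ν : G → ℂ} (hν : IsIrrCharacter G ν)
    (horth : ∀ γ ∈ zspanOn (↑T : Set (NN → ℂ)) {1}ᶜ, classInner ν (indFun NN γ) = 0) :
    ∃ k₀ : ℤ, ∀ η ∈ T, classInner (fun n : NN => ν n) η = k₀ * rdeg HH η := by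
  classical
  have hN : (HH).Normal := normal_H
  have hC' := centralizer_H hC
  set ρ : NN → ℂ := fun n => ν n with hρ
  have hνc : IsClassFunction G ν := isClassFunction_of_isIrrCharacter hν
  have hρc : IsClassFunction NN ρ := by
    intro g h
    simp only [hρ]
    have := hνc g h
    simpa using this
  obtain ⟨η₀, hη₀⟩ := hT0
  have hpos₀ : 0 < rdeg HH η₀ := rdeg_pos hN hC' (hTS hη₀)
  have hpos₀C : (rdeg HH η₀ : ℂ) ≠ 0 := by exact_mod_cast hpos₀.ne'
  have he0 : ((HH).index : ℂ) ≠ 0 := index_ne_zero_complex _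
  set d : ℂ := classInner ρ η₀ / rdeg HH η₀ with hd
  have hval : ∀ η ∈ T, classInner ρ η = d * rdeg HH η := by
    intro η hη
    have hγ : al HH η η₀ ∈ zspanOn (↑T : Set (NN → ℂ)) {1}ᶜ := by
      rw [mem_zspanOn_compl_one]
      refine ⟨Submodule.sub_mem _ (Submodule.smul_mem _ _ (subset_zspan hη))
        (Submodule.smul_mem _ _ (subset_zspan hη₀)), ?_⟩
      rw [al_apply, apply_one_eq hN hC' (hTS hη), apply_one_eq hN hC' (hTS hη₀)]
      ring
    have h1 := horth _ hγ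
    rw [classInner_indFun_right _ _ _ hνc, classInner_al] at h1
    rw [hd]
    field_simp
    linear_combination h1
  set d' : ℂ := d / (HH).index with hd'
  set f : NN → ℂ := ρ - d' • Cfsg.Agent.Lib.Coh2.Frob.regFun NN with hf
  have hfc : IsClassFunction NN f := by
    intro g h
    simp only [hf, Pi.sub_apply, Pi.smul_apply, hρc g h, Cfsg.Agent.Lib.Coh2.Frob.isClassFunction_regFun g h]
  have hfη : ∀ η ∈ T, classInner f η = 0 := by
    intro η hη
    have h0 := hval η hη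
    rw [hf, classInner_sub_left, classInner_smul_left, Cfsg.Agent.Lib.Coh2.Frob.classInner_regFun,
      h0]
    have h1 := apply_one_eq hN hC' (hTS hη)
    have h2 : conj (η 1) = η 1 := by
      rw [← charDegree_natCast (isCharacter_of_isIrrCharacter (mem_nontrivOn.mp (hTS hη)).1)]
      simp
    rw [h2, h1, hd']
    field_simp
    ring
  have hconstf : ∀ z : NN, z ∈ Z.subgroupOf NN → f z = f 1 := by
    intro z hz
    rw [apply_eq_sum hfc z, apply_eq_sum hfc 1]
    refine Finset.sum_congr rfl fun θ hθ => ?_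
    by_cases hθT : θ ∈ T
    · rw [hfη θ hθT]
      simp
    · have h1 : θ ∉ nontrivOn (Z.subgroupOf NN) := fun h => hθT (hZT h)
      rw [mem_nontrivOn] at h1
      push Not at h1
      rw [h1 (mem_irrFinset.mp hθ) z hz]
  -- values on `Z`
  have hvalZ : ∀ z ∈ Z, z ≠ 1 → ν z = ν 1 - d' * Nat.card NN := by
    intro z hz hz1
    have hzN : z ∈ NN := Subgroup.le_normalizer (hZ.le z hz)
    have h1 := hconstf ⟨z, hzN⟩ (by
      rw [Subgroup.mem_subgroupOf]
      exact hz)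
    simp only [hf, Pi.sub_apply, Pi.smul_apply, smul_eq_mul, Cfsg.Agent.Lib.Coh2.Frob.regFun_one] at h1
    rw [Cfsg.Agent.Lib.Coh2.Frob.regFun_of_ne (fun h => hz1 (congrArg Subtype.val h)), mul_zero,
      sub_zero] at h1
    simpa [hρ] using h1
  obtain ⟨z₀, hz₀, hz₀1⟩ : ∃ z₀ ∈ Z, z₀ ≠ 1 := by
    obtain ⟨a, ha⟩ := Subgroup.ne_bot_iff_exists_ne_one.mp hZ.ne_bot
    exact ⟨a, a.2, fun h => ha (Subtype.ext h)⟩
  have hCZ : ∀ z ∈ Z, z ≠ 1 → (NN) ⊓ Subgroup.centralizer ({z} : Set G) = K := by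
    intro z hz hz1
    apply le_antisymm
    · intro x hx
      exact hC z (hZ.le z hz) hz1 hx.2
    · intro x hx
      refine ⟨Subgroup.le_normalizer hx, ?_⟩
      show x ∈ Subgroup.centralizer ({z} : Set G)
      rw [Subgroup.mem_centralizer_singleton_iff]
      exact (hZ.comm z hz x hx).symm
  obtain ⟨n, D, hn, hD, hdvd⟩ := Cfsg.Agent.S1523.result p P hTI hodd Z hZ.ne_bot (fun z hz => hZ.le z hz)
    hZ.conj_mem hZ.comm
    (by
      intro z hz z' hz' h1 h2
      rw [hCZ z hz h1, hCZ z' hz' h2])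
    ν hν
    (by
      intro z hz z' hz' h1 h2
      rw [hvalZ z hz h1, hvalZ z' hz' h2])
    z₀ hz₀ hz₀1
  obtain ⟨k₀, hk₀⟩ := hdvd
  refine ⟨k₀, fun η hη => ?_⟩
  rw [hval η hη]
  congr 1
  have h1 := hvalZ z₀ hz₀ hz₀1
  rw [hn, hD] at h1
  have hK0 : (Nat.card K : ℂ) ≠ 0 := Nat.cast_ne_zero.mpr Nat.card_pos.ne'
  have hcard : (Nat.card NN : ℂ) = (Nat.card K : ℂ) * (HH).index := by
    have h2 := Subgroup.card_mul_index (HH)
    rw [card_subgroupOf] at h2
    exact_mod_cast h2.symm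
  have hk₀C : (D : ℂ) - n = (Nat.card K : ℂ) * k₀ := by exact_mod_cast hk₀
  have h3 : (Nat.card K : ℂ) * (d' * (HH).index) = (Nat.card K : ℂ) * k₀ := by
    rw [← hk₀C, h1, hcard]
    ring
  have h4 := mul_left_cancel₀ hK0 h3
  rw [← h4, hd']
  field_simp

section Conj

variable {N : Type*} [Group N] [Fintype N] {H : Subgroup N}

/-- `nontrivOn` is closed under complex conjugation. -/
theorem conj_mem_nontrivOn {χ : N → ℂ} (hχ : χ ∈ nontrivOn H) : conjFun χ ∈ nontrivOn H := by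
  obtain ⟨h1, z, hz, h2⟩ := mem_nontrivOn.mp hχ
  refine mem_nontrivOn.mpr ⟨Cfsg.Agent.Lib.Char.FrobSchur.isIrr_conj h1, z, hz, ?_⟩
  intro h3
  apply h2
  have := congrArg (starRingEnd ℂ) h3
  simpa [conjFun] using this

/-- In a group of odd order no character in `nontrivOn` is real. -/
theorem conj_ne_of_odd (hodd : Odd (Nat.card N)) {χ : N → ℂ} (hχ : χ ∈ nontrivOn H) : conjFun χ ≠ χ := by
  intro h
  obtain ⟨h1, z, hz, h2⟩ := mem_nontrivOn.mp hχ
  have hreal : ∀ g : N, (χ g).im = 0 := by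
    intro g
    have h3 := congrFun h g
    simp only [conjFun] at h3
    exact Complex.conj_eq_iff_im.mp h3
  rw [Cfsg.Agent.Lib.Char.RealChar.eq_one_of_real_of_odd hodd h1 hreal] at h2
  exact h2 rfl

theorem deg_conj {χ : N → ℂ} (hχ : IsCharacter N χ) : charDegree (conjFun χ) = charDegree χ := by
  apply charDegree_eq_of_eq_natCast
  simp only [conjFun]
  rw [← charDegree_natCast hχ]
  simp

end Conj

/-- Lemma G: a conjugate pair can be added to a coherent set containing the characters nontrivial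
on `Z`. -/
theorem extend_pair (hTI : IsTISubset (K : Set G)) (hodd : Odd (Nat.card NN))
    (hC : ∀ k ∈ K, k ≠ 1 → Subgroup.centralizer ({k} : Set G) ≤ K)
    {Z : Subgroup G} (hZ : CentralData P Z)
    (T : Finset (NN → ℂ)) (hTS : T ⊆ nontrivOn HH) (hTc : ∀ η ∈ T, conjFun η ∈ T)
    (hZT : nontrivOn (Z.subgroupOf NN) ⊆ T)
    (hcoh : IsCoherent (↑T : Set (NN → ℂ)) {1}ᶜ (fun α => indFun NN α))
    {η₀ : NN → ℂ} (hη₀ : η₀ ∈ T) {χ : NN → ℂ} (hχ : χ ∈ nontrivOn HH) (hχT : χ ∉ T)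
    (hdvd : charDegree χ ∣ charDegree η₀) :
    IsCoherent (↑T ∪ {χ, conjFun χ} : Set (NN → ℂ)) {1}ᶜ (fun α => indFun NN α) := by
  classical
  obtain ⟨-, τ₁, hτ₁, hag⟩ := hcoh
  set τ : (NN → ℂ) → (G → ℂ) := fun α => indFun NN α with hτdef
  have hN : (HH).Normal := normal_H
  have hC' := centralizer_H hC
  have hτ₁' : IsLinearIsometryOn ((zspanS (↑T : Set (NN → ℂ)) : Submodule ℤ (NN → ℂ)) : Set (NN → ℂ)) τ₁ :=
    hτ₁
  have hTi : ∀ ξ ∈ T, IsIrrCharacter NN ξ := fun ξ hξ => (mem_nontrivOn.mp (hTS hξ)).1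
  have hχi : IsIrrCharacter NN χ := (mem_nontrivOn.mp hχ).1
  set χ' := conjFun χ with hχ'def
  have hχ'S : χ' ∈ nontrivOn HH := conj_mem_nontrivOn hχ
  have hχ'i : IsIrrCharacter NN χ' := (mem_nontrivOn.mp hχ'S).1
  have hχ'T : χ' ∉ T := by
    intro h
    apply hχT
    have := hTc _ h
    rwa [hχ'def, Cfsg.Agent.Lib.Coh.System.conj_conj] at this
  have hχχ' : χ ≠ χ' := (conj_ne_of_odd hodd hχ).symm
  have hη₀' := hTc η₀ hη₀
  have hηη' : η₀ ≠ conjFun η₀ := (conj_ne_of_odd hodd (hTS hη₀)).symm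
  have hη₀i := hTi η₀ hη₀
  set U : Set (NN → ℂ) := ↑T ∪ {χ, χ'} with hU
  have hUS : U ⊆ ↑(nontrivOn HH) := by
    rintro ξ (hξ | hξ)
    · exact hTS hξ
    · rcases hξ with rfl | hξ
      · exact hχ
      · rw [Set.mem_singleton_iff.mp hξ]
        exact hχ'S
  obtain ⟨hiso, hiso1⟩ := iso_ind hTI hC hUS
  have hUi : ∀ ξ ∈ U, IsIrrCharacter NN ξ := fun ξ hξ => (mem_nontrivOn.mp (hUS hξ)).1
  have hTU : (↑T : Set (NN → ℂ)) ⊆ U := Set.subset_union_left
  have hXU : ({χ, χ'} : Set (NN → ℂ)) ⊆ U := Set.subset_union_right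
  have hχU : χ ∈ zspan U := subset_zspan (hXU (by simp))
  have hχ'U : χ' ∈ zspan U := subset_zspan (hXU (by simp))
  have hηU : η₀ ∈ zspan U := subset_zspan (hTU hη₀)
  -- degrees
  obtain ⟨c, hc⟩ := hdvd
  set x := charDegree χ with hx
  set y := charDegree η₀ with hy
  have hxC : χ 1 = (x : ℂ) := (charDegree_natCast (isCharacter_of_isIrrCharacter hχi)).symm
  have hx'C : χ' 1 = (x : ℂ) := by
    rw [← hxC]
    exact Cfsg.Agent.Lib.Coh.System.conj_apply_one (isCharacter_of_isIrrCharacter hχi)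
  have hyC : η₀ 1 = (y : ℂ) := (charDegree_natCast (isCharacter_of_isIrrCharacter hη₀i)).symm
  have hxpos : 0 < x := charDegree_pos hχi
  have hypos : 0 < y := charDegree_pos hη₀i
  have hcpos : 0 < c := by
    apply Nat.pos_of_ne_zero
    rintro rfl
    omega
  -- the function `χ - χ'`
  have hD : χ - χ' ∈ zspanOn U {1}ᶜ := by
    rw [mem_zspanOn_compl_one]
    refine ⟨Submodule.sub_mem _ hχU hχ'U, ?_⟩
    rw [Pi.sub_apply, hxC, hx'C, sub_self]
  have hoχχ' : classInner χ χ' = 0 := classInner_eq_zero_of_isIrr_of_ne hχi hχ'i hχχ'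
  have hoχ'χ : classInner χ' χ = 0 := classInner_eq_zero_of_isIrr_of_ne hχ'i hχi hχχ'.symm
  have hχ1 : classInner χ χ = 1 := classInner_self_of_isIrr hχi
  have hχ'1 : classInner χ' χ' = 1 := classInner_self_of_isIrr hχ'i
  have hnD : classInner (τ (χ - χ')) (τ (χ - χ')) = 2 := by
    rw [hiso.2.2.1 _ hD _ hD, classInner_sub_left, classInner_sub_right, classInner_sub_right,
      hoχχ', hoχ'χ, hχ1, hχ'1]
    norm_num
  obtain ⟨μ, ν, hμ, hν, hμν, hθ⟩ := Cfsg.Agent.Lib.Coh.EqualDeg.exists_sub_of_norm_two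
    (hiso.2.2.2 _ hD) hnD (hiso1 _ hD)
  have hθ' : τ (χ - χ') = μ - ν := hθ
  have hμ1 : classInner μ μ = 1 := classInner_self_of_isIrr hμ
  have hν1 : classInner ν ν = 1 := classInner_self_of_isIrr hν
  have hoμν : classInner μ ν = 0 := classInner_eq_zero_of_isIrr_of_ne hμ hν hμν
  have hoνμ : classInner ν μ = 0 := classInner_eq_zero_of_isIrr_of_ne hν hμ hμν.symm
  have hμv := isGenChar_of_isIrr hμ
  have hνv := isGenChar_of_isIrr hν
  have hτ₁v : ∀ s : ℤ, τ (s • (χ - χ')) = s • (τ (χ - χ')) := fun s => hiso.2.1 _ hD s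
  -- the function `D₀`
  set D₀ : NN → ℂ := η₀ - (c : ℤ) • χ with hD₀def
  have hD₀ : D₀ ∈ zspanOn U {1}ᶜ := by
    rw [mem_zspanOn_compl_one]
    refine ⟨Submodule.sub_mem _ hηU (Submodule.smul_mem _ _ hχU), ?_⟩
    simp only [hD₀def, Pi.sub_apply, zsmul_apply', hxC, hyC, hc]
    push_cast
    ring
  set u : G → ℂ := τ D₀ with hu
  have huv : IsGeneralizedCharacter G u := hiso.2.2.2 _ hD₀
  have hne_ηχ : η₀ ≠ χ := fun h => hχT (h ▸ hη₀)
  have hne_ηχ' : η₀ ≠ χ' := fun h => hχ'T (h ▸ hη₀)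
  have hoηχ : classInner η₀ χ = 0 := classInner_eq_zero_of_isIrr_of_ne hη₀i hχi hne_ηχ
  have hoχη : classInner χ η₀ = 0 := classInner_eq_zero_of_isIrr_of_ne hχi hη₀i hne_ηχ.symm
  have hoηχ' : classInner η₀ χ' = 0 := classInner_eq_zero_of_isIrr_of_ne hη₀i hχ'i hne_ηχ'
  have hη1 : classInner η₀ η₀ = 1 := classInner_self_of_isIrr hη₀i
  have hunorm : classInner u u = 1 + (c : ℂ) ^ 2 := by
    rw [hu, hiso.2.2.1 _ hD₀ _ hD₀]
    simp only [hD₀def, classInner_sub_left, classInner_sub_right, classInner_zsmul_left,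
      classInner_zsmul_right, hη1, hoηχ, hoχη, hχ1]
    push_cast
    ring
  have huD : classInner u (μ - ν) = -(c : ℂ) := by
    rw [← hθ', hu, hiso.2.2.1 _ hD₀ _ hD]
    simp only [hD₀def, classInner_sub_left, classInner_sub_right, classInner_zsmul_left, hoηχ, hoηχ',
      hχ1, hoχχ']
    push_cast
    ring
  -- the key finishing statement
  have key : ∀ (τ' : (NN → ℂ) → (G → ℂ)), IsLinearIsometryOn (zspan (↑T : Set (NN → ℂ))) τ' →
      (∀ α ∈ zspanOn (↑T : Set (NN → ℂ)) {1}ᶜ, τ' α = τ α) → ∀ a' b' : G → ℂ,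
      IsGeneralizedCharacter G a' → IsGeneralizedCharacter G b' → classInner a' a' = 1 →
      classInner b' b' = 1 → classInner a' b' = 0 → a' - b' = μ - ν →
      classInner u (τ' η₀) = 1 → classInner u a' = -(c : ℂ) → IsCoherent U {1}ᶜ τ := by
    intro τ' hτ' hag' a' b' ha' hb' ha'1 hb'1 ha'b' hab' hu1 hu2
    obtain ⟨σ', hσ', hσ'a, hσ'b, hσ'ag⟩ := Cfsg.Agent.Lib.Coh.PairExt.pair_iso hχi hχ'i hχχ'
      (hxC.trans hx'C.symm) ha' hb' ha'1 hb'1 ha'b' (τ := τ) (by
        intro s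
        rw [hτ₁v, hθ', hab'])
    obtain ⟨h1, h2⟩ := Cfsg.Agent.Lib.Coh.Union.union_aux U {χ, χ'} (↑T : Set (NN → ℂ)) hUi hXU hTU
      (by
        rw [Set.disjoint_left]
        rintro ξ hξ hξT
        rcases hξ with rfl | hξ
        · exact hχT hξT
        · rw [Set.mem_singleton_iff.mp hξ] at hξT
          exact hχ'T hξT)
      ⟨χ, by simp, χ', by simp, hχχ'⟩ ⟨η₀, hη₀, conjFun η₀, hη₀', hηη'⟩ τ hiso hiso1 σ' τ' hσ' hσ'ag
      hτ' hag'
    rw [hU, Set.union_comm]
    apply h2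
    refine ⟨χ, by simp, η₀, hη₀, ?_⟩
    have hτ'η := iso_virtual hτ' (subset_zspan hη₀ : η₀ ∈ zspan (↑T : Set (NN → ℂ)))
    have hτ'n : classInner (τ' η₀) (τ' η₀) = 1 := by
      rw [iso_inner hτ' (subset_zspan hη₀) (subset_zspan hη₀), hη1]
    have hp := h1 χ (by simp) η₀ hη₀
    rw [hσ'a] at hp
    have hp' : classInner (τ' η₀) a' = 0 := by rw [← classInner_conj, hp, map_zero]
    have hu1' : classInner (τ' η₀) u = 1 := by rw [← classInner_conj, hu1]; simp
    have hu2' : classInner a' u = -(c : ℂ) := by rw [← classInner_conj, hu2]; simp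
    have hR : u - τ' η₀ + (c : ℤ) • a' = 0 := by
      rw [← classInner_self_eq_zero_iff]
      simp only [classInner_add_left, classInner_add_right, classInner_sub_left, classInner_sub_right,
        classInner_zsmul_left, classInner_zsmul_right, hunorm, hτ'n, ha'1, hu1, hu2, hu1', hu2', hp,
        hp']
      push_cast
      ring
    have hue : u = τ' η₀ - (c : ℤ) • a' := by
      rw [eq_sub_iff_add_eq, ← sub_eq_zero, ← hR]
      abel
    have hlhs : χ 1 • η₀ - η₀ 1 • χ = (x : ℤ) • D₀ := by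
      funext g
      simp only [hD₀def, Pi.sub_apply, Pi.smul_apply, smul_eq_mul, zsmul_apply', hxC, hyC, hc]
      simp only [zsmul_eq_mul, Int.cast_natCast, Nat.cast_mul]
      ring
    have hzs : τ ((x : ℤ) • D₀) = (x : ℤ) • τ D₀ := hiso.2.1 _ hD₀ _
    rw [hlhs, hzs, ← hu, hue, hxC, hyC, hσ'a]
    funext g
    simp only [Pi.sub_apply, Pi.smul_apply, smul_eq_mul, zsmul_apply', hc]
    simp only [zsmul_eq_mul, Int.cast_natCast, Nat.cast_mul]
    ring
  -- orthogonality of `μ`, `ν` to the image of `T`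
  obtain ⟨σ, hσ, hσa, hσb, hσag⟩ := Cfsg.Agent.Lib.Coh.PairExt.pair_iso hχi hχ'i hχχ'
    (hxC.trans hx'C.symm) hμv hνv hμ1 hν1 hoμν (τ := τ) (by
      intro s
      rw [hτ₁v, hθ'])
  obtain ⟨hp1, -⟩ := Cfsg.Agent.Lib.Coh.Union.union_aux U {χ, χ'} (↑T : Set (NN → ℂ)) hUi hXU hTU
    (by
      rw [Set.disjoint_left]
      rintro ξ hξ hξT
      rcases hξ with rfl | hξ
      · exact hχT hξT
      · rw [Set.mem_singleton_iff.mp hξ] at hξT
        exact hχ'T hξT)
    ⟨χ, by simp, χ', by simp, hχχ'⟩ ⟨η₀, hη₀, conjFun η₀, hη₀', hηη'⟩ τ hiso hiso1 σ τ₁ hσ hσag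
    hτ₁ hag
  have hμT : ∀ η ∈ T, classInner μ (τ₁ η) = 0 := by
    intro η hη
    have := hp1 χ (by simp) η hη
    rwa [hσa] at this
  have hνT : ∀ η ∈ T, classInner ν (τ₁ η) = 0 := by
    intro η hη
    have := hp1 χ' (by simp) η hη
    rwa [hσb] at this
  -- the integers
  have hmemT : ∀ η ∈ T, η ∈ zspan (↑T : Set (NN → ℂ)) := fun η hη => subset_zspan hη
  have hτ₁η₀v : IsGeneralizedCharacter G (τ₁ η₀) := iso_virtual hτ₁ (hmemT η₀ hη₀)
  obtain ⟨a₁, ha₁⟩ := exists_int_classInner huv hτ₁η₀v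
  obtain ⟨b, hb⟩ := exists_int_classInner huv hνv
  set a : ℤ := a₁ - 1 with ha
  have huμ : classInner u μ = (b : ℂ) - c := by
    have h1 := huD
    rw [classInner_sub_right, hb] at h1
    linear_combination h1
  have hw : ∀ η ∈ T, (y : ℂ) * classInner u (τ₁ η) =
      (((if η = η₀ then (y : ℤ) else 0) + (charDegree η : ℤ) * a : ℤ) : ℂ) := by
    intro η hη
    have hηi := hTi η hη
    have hηd : η 1 = (charDegree η : ℂ) := (charDegree_natCast (isCharacter_of_isIrrCharacter hηi)).symm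
    set γ : NN → ℂ := (y : ℤ) • η - (charDegree η : ℤ) • η₀ with hγ
    have hγ₁ : γ ∈ zspanOn (↑T : Set (NN → ℂ)) {1}ᶜ := by
      rw [mem_zspanOn_compl_one]
      refine ⟨Submodule.sub_mem _ (Submodule.smul_mem _ _ (hmemT η hη))
        (Submodule.smul_mem _ _ (hmemT η₀ hη₀)), ?_⟩
      simp only [hγ, Pi.sub_apply, zsmul_apply', hηd, hyC]
      push_cast
      ring
    have hγ₂ : γ ∈ zspanOn U {1}ᶜ := zspanOn_mono _ hTU hγ₁
    have h1 := hiso.2.2.1 _ hD₀ _ hγ₂
    have h2 : τ γ = (y : ℤ) • τ₁ η - (charDegree η : ℤ) • τ₁ η₀ := by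
      rw [← hag _ hγ₁, hγ, iso_sub hτ₁' (Submodule.smul_mem _ _ (hmemT η hη))
        (Submodule.smul_mem _ _ (hmemT η₀ hη₀)), iso_zsmul hτ₁ (hmemT η hη),
        iso_zsmul hτ₁ (hmemT η₀ hη₀)]
    have hχη : classInner χ η = 0 :=
      classInner_eq_zero_of_isIrr_of_ne hχi hηi (fun h => hχT (h ▸ hη))
    have h3 : classInner D₀ γ = (y : ℂ) * classInner η₀ η - charDegree η := by
      simp only [hD₀def, hγ, classInner_sub_left, classInner_sub_right, classInner_zsmul_left,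
        classInner_zsmul_right, hη1, hχη, hoχη]
      push_cast
      ring
    have h1' : classInner u (τ γ) = classInner D₀ γ := h1
    rw [h2, h3, classInner_sub_right, classInner_zsmul_right, classInner_zsmul_right, ha₁] at h1'
    push_cast at h1' ⊢
    by_cases hh : η = η₀
    · subst hh
      rw [if_pos rfl, hη1, mul_one] at *
      have h5 : (a : ℂ) = a₁ - 1 := by
        rw [ha]
        push_cast
        rfl
      rw [h5]
      linear_combination h1'
    · rw [if_neg hh, classInner_eq_zero_of_isIrr_of_ne hη₀i hηi (Ne.symm hh)] at *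
      have h5 : (a : ℂ) = a₁ - 1 := by
        rw [ha]
        push_cast
        rfl
      rw [h5]
      linear_combination h1'
  -- Bessel
  have hB := Cfsg.Agent.Lib.Coh.Extension.bessel_two ({μ, ν} : Finset (G → ℂ))
    (by
      intro α hα β hβ
      have h1 : α = μ ∨ α = ν := by simpa using hα
      have h2 : β = μ ∨ β = ν := by simpa using hβ
      rcases h1 with h1 | h1 <;> rcases h2 with h2 | h2 <;> rw [h1, h2]
      · rw [if_pos rfl, hμ1]
      · rw [if_neg hμν, hoμν]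
      · rw [if_neg hμν.symm, hoνμ]
      · rw [if_pos rfl, hν1])
    T τ₁ (fun _ => (1 : ℝ)) (fun _ _ => one_pos)
    (by
      intro η hη η' hη'
      rw [iso_inner hτ₁ (hmemT η hη) (hmemT η' hη')]
      by_cases h : η = η'
      · subst h
        rw [if_pos rfl, classInner_self_of_isIrr (hTi η hη)]
        simp
      · rw [if_neg h]
        exact classInner_eq_zero_of_isIrr_of_ne (hTi η hη) (hTi η' hη') h)
    (by
      intro β hβ η hη
      have h1 : β = μ ∨ β = ν := by simpa using hβ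
      rcases h1 with h1 | h1 <;> rw [h1]
      · exact hμT η hη
      · exact hνT η hη)
    u
  rw [Finset.sum_pair hμν, huμ, hb, hunorm] at hB
  simp only [div_one] at hB
  have hcastμ : ((b : ℂ) - c) = ((b - c : ℤ) : ℂ) := by push_cast; rfl
  rw [hcastμ, Complex.norm_intCast, Complex.norm_intCast, sq_abs, sq_abs] at hB
  have hre : (1 + (c : ℂ) ^ 2).re = 1 + (c : ℝ) ^ 2 := by
    have : (1 + (c : ℂ) ^ 2) = ((1 + (c : ℝ) ^ 2 : ℝ) : ℂ) := by push_cast; rfl
    rw [this, Complex.ofReal_re]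
  rw [hre] at hB
  set W : (NN → ℂ) → ℤ := fun η => (if η = η₀ then (y : ℤ) else 0) + (charDegree η : ℤ) * a with hW
  have hyR : (0 : ℝ) < y := by exact_mod_cast hypos
  have hsumW : (y : ℝ) ^ 2 * ∑ η ∈ T, ‖classInner u (τ₁ η)‖ ^ 2 = ((∑ η ∈ T, W η ^ 2 : ℤ) : ℝ) := by
    rw [Finset.mul_sum, Int.cast_sum]
    refine Finset.sum_congr rfl fun η hη => ?_
    have h1 := congrArg norm (hw η hη)
    rw [norm_mul, Complex.norm_natCast, Complex.norm_intCast] at h1
    calc (y : ℝ) ^ 2 * ‖classInner u (τ₁ η)‖ ^ 2 = ((y : ℝ) * ‖classInner u (τ₁ η)‖) ^ 2 := by ring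
      _ = _ := by
        rw [h1, sq_abs, Int.cast_pow]
  have hBZ : (y : ℤ) ^ 2 * ((b - c) ^ 2 + b ^ 2) + ∑ η ∈ T, W η ^ 2 ≤ (y : ℤ) ^ 2 * (1 + c ^ 2) := by
    have h1 : (y : ℝ) ^ 2 * (((b - c : ℤ) : ℝ) ^ 2 + (b : ℝ) ^ 2 + ∑ η ∈ T, ‖classInner u (τ₁ η)‖ ^ 2) ≤
        (y : ℝ) ^ 2 * (1 + (c : ℝ) ^ 2) := mul_le_mul_of_nonneg_left hB (by positivity)
    rw [mul_add, hsumW] at h1
    have h2 : ((((y : ℤ) ^ 2 * ((b - c) ^ 2 + b ^ 2) + ∑ η ∈ T, W η ^ 2 : ℤ) : ℝ)) ≤
        (((y : ℤ) ^ 2 * (1 + c ^ 2) : ℤ) : ℝ) := by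
      push_cast at h1 ⊢
      linarith
    exact_mod_cast h2
  -- the sum of squares of degrees
  set M : ℤ := ∑ η ∈ T, (charDegree η : ℤ) ^ 2 with hMdef
  have hexp : ∑ η ∈ T, W η ^ 2 = (y : ℤ) ^ 2 + 2 * a * (y : ℤ) ^ 2 + a ^ 2 * M :=
    Cfsg.Agent.Lib.Coh.PairExt.sum_sq_expand T (fun η => (charDegree η : ℤ)) η₀ hη₀ a (y : ℤ) rfl
  have hdegc : charDegree (conjFun η₀) = y := deg_conj (isCharacter_of_isIrrCharacter hη₀i)
  have hpair : ({η₀, conjFun η₀} : Finset (NN → ℂ)) ⊆ T := by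
    intro ξ hξ
    have h1 : ξ = η₀ ∨ ξ = conjFun η₀ := by simpa using hξ
    rcases h1 with h1 | h1 <;> rw [h1]
    · exact hη₀
    · exact hη₀'
  have hMsplit : M = 2 * (y : ℤ) ^ 2 + ∑ η ∈ T \ {η₀, conjFun η₀}, (charDegree η : ℤ) ^ 2 := by
    rw [hMdef, ← Finset.sum_sdiff hpair, Finset.sum_pair hηη', hdegc]
    ring
  have hM2 : 2 * (y : ℤ) ^ 2 ≤ M := by
    rw [hMsplit]
    have : 0 ≤ ∑ η ∈ T \ {η₀, conjFun η₀}, (charDegree η : ℤ) ^ 2 :=
      Finset.sum_nonneg fun _ _ => by positivity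
    linarith
  -- divisibility of `b` by `c`
  have hνind : ∀ γ ∈ zspanOn (↑T : Set (NN → ℂ)) {1}ᶜ, classInner ν (indFun NN γ) = 0 := by
    intro γ hγ
    have h1 := hag γ hγ
    have h2 : τ γ = indFun NN γ := rfl
    rw [← h2, ← h1]
    exact inner_image_eq_zero hτ₁ (fun ξ hξ => hνT ξ hξ) γ hγ.1
  obtain ⟨k₀, hk₀⟩ := exists_k P hTI hodd hC hZ T hTS hZT ⟨η₀, hη₀⟩ hν hνind
  have hνc : IsClassFunction G ν := isClassFunction_of_isIrrCharacter hν
  obtain ⟨m, hm⟩ := exists_int_classInner (isGenChar_of_isIrr hχi) (isGenChar_restrict NN hνv)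
  have hrd : rdeg HH η₀ = c * rdeg HH χ := by
    have h1 := charDegree_eq hN hC' (hTS hη₀)
    have h2 := charDegree_eq hN hC' hχ
    have he : 0 < (HH).index := Nat.pos_of_ne_zero Subgroup.index_ne_zero_of_finite
    apply Nat.eq_of_mul_eq_mul_left he
    rw [← h1, ← hy, hc, hx, h2]
    ring
  have hbdvd : b = c * (k₀ * rdeg HH χ - m) := by
    have h1 : classInner u ν = classInner D₀ (fun n : NN => ν n) :=
      classInner_indFun_left NN D₀ ν hνc
    rw [hb] at h1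
    simp only [hD₀def, classInner_sub_left, classInner_zsmul_left, hm] at h1
    have h2 : classInner η₀ (fun n : NN => ν n) = (k₀ : ℂ) * rdeg HH η₀ := by
      rw [← classInner_conj, hk₀ η₀ hη₀]
      simp
    rw [h2, hrd] at h1
    have h3 : (b : ℂ) = ((c * (k₀ * rdeg HH χ - m) : ℤ) : ℂ) := by
      rw [h1]
      push_cast
      ring
    exact_mod_cast h3
  set k : ℤ := k₀ * rdeg HH χ - m with hk
  -- the arithmetic
  have hcZ : (0 : ℤ) < c := by exact_mod_cast hcpos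
  have hyZ : (0 : ℤ) < y := by exact_mod_cast hypos
  have hE0 : 0 ≤ 2 * (c : ℤ) ^ 2 * (k ^ 2 - k) := by
    have := Int.le_self_sq k
    have h2 : 0 ≤ k ^ 2 - k := by linarith
    positivity
  have hineq : 2 * a * (y : ℤ) ^ 2 + a ^ 2 * M + (y : ℤ) ^ 2 * (2 * (c : ℤ) ^ 2 * (k ^ 2 - k)) ≤ 0 := by
    rw [hexp, hbdvd] at hBZ
    nlinarith [hBZ]
  obtain ⟨hE, ha01⟩ := Cfsg.Agent.Lib.Coh.PairExt.arith hyZ hM2 hE0 hineq
  have hk01 : k = 0 ∨ k = 1 := by
    have h1 : (c : ℤ) ^ 2 ≠ 0 := by positivity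
    have h2 : k ^ 2 - k = 0 := by
      have h3 : 2 * (c : ℤ) ^ 2 ≠ 0 := by positivity
      exact (mul_eq_zero.mp hE).resolve_left h3
    have h4 : k * (k - 1) = 0 := by linarith [h2, sq k]
    rcases mul_eq_zero.mp h4 with h5 | h5
    · exact Or.inl h5
    · exact Or.inr (by omega)
  -- the choice of `a'`, `b'`
  have hchoice : ∃ a' b' : G → ℂ, IsGeneralizedCharacter G a' ∧ IsGeneralizedCharacter G b' ∧
      classInner a' a' = 1 ∧ classInner b' b' = 1 ∧ classInner a' b' = 0 ∧ a' - b' = μ - ν ∧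
      classInner u a' = -(c : ℂ) := by
    rcases hk01 with h0 | h1
    · have hb0 : b = 0 := by rw [hbdvd, h0, mul_zero]
      refine ⟨μ, ν, hμv, hνv, hμ1, hν1, hoμν, rfl, ?_⟩
      rw [huμ, hb0]
      simp
    · have hbc : b = c := by rw [hbdvd, h1, mul_one]
      refine ⟨-ν, -μ, isGenChar_neg hνv, isGenChar_neg hμv, ?_, ?_, ?_, ?_, ?_⟩
      · rw [classInner_neg_left, classInner_neg_right, neg_neg, hν1]
      · rw [classInner_neg_left, classInner_neg_right, neg_neg, hμ1]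
      · rw [classInner_neg_left, classInner_neg_right, neg_neg, hoνμ]
      · abel
      · rw [classInner_neg_right, hb, hbc]
        simp
  obtain ⟨a', b', ha', hb', ha'1, hb'1, ha'b', hab', hua'⟩ := hchoice
  -- the choice of `τ'`
  have hτchoice : ∃ τ' : (NN → ℂ) → (G → ℂ), IsLinearIsometryOn (zspan (↑T : Set (NN → ℂ))) τ' ∧
      (∀ α ∈ zspanOn (↑T : Set (NN → ℂ)) {1}ᶜ, τ' α = τ α) ∧ classInner u (τ' η₀) = 1 := by
    rcases ha01 with h0 | ⟨h1, h2⟩
    · refine ⟨τ₁, hτ₁, hag, ?_⟩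
      rw [ha₁]
      have : a₁ = 1 := by
        rw [ha] at h0
        omega
      rw [this]
      simp
    · -- `T` is the pair
      have hsd : T \ {η₀, conjFun η₀} = ∅ := by
        rw [hMsplit] at h2
        have h3 : ∑ η ∈ T \ {η₀, conjFun η₀}, (charDegree η : ℤ) ^ 2 = 0 := by linarith
        have h4 := (Finset.sum_eq_zero_iff_of_nonneg (fun _ _ => by positivity)).mp h3
        by_contra hne
        obtain ⟨ξ, hξ⟩ := Finset.nonempty_iff_ne_empty.mpr hne
        have h5 := h4 ξ hξ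
        have h6 := charDegree_pos (hTi ξ (Finset.mem_sdiff.mp hξ).1)
        have h7 : (0 : ℤ) < charDegree ξ := by exact_mod_cast h6
        have h8 : (0 : ℤ) < (charDegree ξ : ℤ) ^ 2 := by positivity
        omega
      have hTeq : T = {η₀, conjFun η₀} :=
        Finset.Subset.antisymm (Finset.sdiff_eq_empty_iff_subset.mp hsd) hpair
      have hTset : (↑T : Set (NN → ℂ)) = {η₀, conjFun η₀} := by
        rw [hTeq]
        simp
      have hη₀'i := hTi _ hη₀'
      have hv1 := iso_virtual hτ₁ (hmemT _ hη₀')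
      have hv2 := iso_virtual hτ₁ (hmemT _ hη₀)
      obtain ⟨σ₂, hσ₂, hσ₂a, hσ₂b, hσ₂ag⟩ := Cfsg.Agent.Lib.Coh.PairExt.pair_iso hη₀i hη₀'i hηη'
        (Cfsg.Agent.Lib.Coh.System.conj_apply_one (isCharacter_of_isIrrCharacter hη₀i)).symm
        (isGenChar_neg hv1) (isGenChar_neg hv2)
        (a := -τ₁ (conjFun η₀)) (b := -τ₁ η₀) (τ := τ)
        (by
          rw [classInner_neg_left, classInner_neg_right, neg_neg,
            iso_inner hτ₁ (hmemT _ hη₀') (hmemT _ hη₀'), classInner_self_of_isIrr hη₀'i])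
        (by
          rw [classInner_neg_left, classInner_neg_right, neg_neg,
            iso_inner hτ₁ (hmemT _ hη₀) (hmemT _ hη₀), hη1])
        (by
          rw [classInner_neg_left, classInner_neg_right, neg_neg,
            iso_inner hτ₁ (hmemT _ hη₀') (hmemT _ hη₀)]
          exact classInner_eq_zero_of_isIrr_of_ne hη₀'i hη₀i hηη'.symm)
        (by
          intro s
          have hmem : s • (η₀ - conjFun η₀) ∈ zspanOn (↑T : Set (NN → ℂ)) {1}ᶜ := by
            rw [mem_zspanOn_compl_one]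
            refine ⟨Submodule.smul_mem _ _ (Submodule.sub_mem _ (hmemT _ hη₀) (hmemT _ hη₀')), ?_⟩
            simp only [zsmul_apply', Pi.sub_apply,
              Cfsg.Agent.Lib.Coh.System.conj_apply_one (isCharacter_of_isIrrCharacter hη₀i), sub_self,
              mul_zero]
          rw [← hag _ hmem, iso_zsmul hτ₁ (Submodule.sub_mem _ (hmemT _ hη₀) (hmemT _ hη₀')),
            iso_sub hτ₁' (hmemT _ hη₀) (hmemT _ hη₀')]
          congr 1
          abel)
      rw [← hTset] at hσ₂ hσ₂ag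
      refine ⟨σ₂, hσ₂, hσ₂ag, ?_⟩
      rw [hσ₂a, classInner_neg_right]
      have h3 := hw _ hη₀'
      rw [if_neg hηη'.symm, hdegc, h1] at h3
      have hyC0 : (y : ℂ) ≠ 0 := by exact_mod_cast hypos.ne'
      have h4 : (y : ℂ) * classInner u (τ₁ (conjFun η₀)) = (y : ℂ) * (-1) := by
        rw [h3]
        push_cast
        ring
      rw [mul_left_cancel₀ hyC0 h4]
      simp
  obtain ⟨τ', hτ', hag', hu1⟩ := hτchoice
  exact key τ' hτ' hag' a' b' ha' hb' ha'1 hb'1 ha'b' hab' hu1 hua'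

namespace CentralData

variable {P} {Z : Subgroup G} (hZ : CentralData P Z)

include hZ

theorem subgroupOf_le : Z.subgroupOf NN ≤ HH := by
  intro z hz
  rw [Subgroup.mem_subgroupOf] at hz ⊢
  exact hZ.le _ hz

theorem subgroupOf_normal : (Z.subgroupOf NN).Normal := by
  refine ⟨fun z hz x => ?_⟩
  rw [Subgroup.mem_subgroupOf] at hz ⊢
  exact hZ.conj_mem _ x.2 _ hz

theorem subgroupOf_comm : ∀ z ∈ Z.subgroupOf NN, ∀ h ∈ HH, z * h = h * z := by
  intro z hz h hh
  rw [Subgroup.mem_subgroupOf] at hz hh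
  apply Subtype.ext
  exact hZ.comm _ hz _ hh

theorem subgroupOf_ne_bot : Z.subgroupOf NN ≠ ⊥ := by
  intro h
  apply hZ.ne_bot
  rw [eq_bot_iff]
  intro z hz
  have hzK := hZ.le z hz
  have h1 : (⟨z, Subgroup.le_normalizer hzK⟩ : NN) ∈ Z.subgroupOf NN := by
    rw [Subgroup.mem_subgroupOf]
    exact hz
  rw [h, Subgroup.mem_bot] at h1
  rw [Subgroup.mem_bot]
  exact congrArg Subtype.val h1

end CentralData

/-- The centre of `P` satisfies the hypotheses. -/
theorem centralData_center (hK : (K : Subgroup G) ≠ ⊥) :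
    CentralData P ((Subgroup.center K).map (Subgroup.subtype K)) := by
  refine ⟨?_, ?_, ?_, ?_⟩
  · haveI : Nontrivial K := Subgroup.nontrivial_iff_ne_bot _ |>.mpr hK
    have h1 := IsPGroup.center_nontrivial (p := p) (G := K) P.isPGroup'
    obtain ⟨a, ha⟩ := exists_ne (1 : Subgroup.center K)
    intro h
    apply ha
    have h2 : ((a : K) : G) ∈ (Subgroup.center K).map (Subgroup.subtype K) := ⟨a, a.2, rfl⟩
    rw [h, Subgroup.mem_bot] at h2
    apply Subtype.ext
    apply Subtype.ext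
    exact h2
  · rintro z ⟨a, ha, rfl⟩
    exact a.2
  · rintro z ⟨a, ha, rfl⟩ y hy
    have h1 := Subgroup.mem_center_iff.mp ha ⟨y, hy⟩
    exact (congrArg Subtype.val h1).symm
  · rintro x hx z ⟨a, ha, rfl⟩
    have hxm := Subgroup.mem_normalizer_iff.mp hx
    have h1 : x * (a : G) * x⁻¹ ∈ K := (hxm a).mp a.2
    refine ⟨⟨_, h1⟩, Subgroup.mem_center_iff.mpr ?_, rfl⟩
    intro y
    apply Subtype.ext
    show (y : G) * (x * (a : G) * x⁻¹) = x * (a : G) * x⁻¹ * y
    have h2 : x⁻¹ * (y : G) * x ∈ K := by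
      have hxi := Subgroup.mem_normalizer_iff.mp ((NN).inv_mem hx)
      have := (hxi y).mp y.2
      simpa using this
    have h3 := Subgroup.mem_center_iff.mp ha ⟨_, h2⟩
    have h4 : x⁻¹ * (y : G) * x * (a : G) = (a : G) * (x⁻¹ * (y : G) * x) := congrArg Subtype.val h3
    calc (y : G) * (x * (a : G) * x⁻¹) = x * (x⁻¹ * (y : G) * x * (a : G)) * x⁻¹ := by group
      _ = x * ((a : G) * (x⁻¹ * (y : G) * x)) * x⁻¹ := by rw [h4]
      _ = _ := by group

/-- Sibley: the non-abelian case. -/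
theorem coherent_nonabelian (hp : p ≠ 2) (hna : ¬ IsMulCommutative K)
    (hTI : IsTISubset (K : Set G))
    (hC : ∀ k ∈ K, k ≠ 1 → Subgroup.centralizer ({k} : Set G) ≤ K) :
    IsCoherent (↑(nontrivOn HH) : Set (NN → ℂ)) {1}ᶜ (fun α => indFun NN α) := by
  classical
  have hpp : p.Prime := Fact.out
  have hp3 : 3 ≤ p := by
    have := hpp.two_le
    omega
  have hN : (HH).Normal := normal_H
  have hC' := centralizer_H hC
  have hcardH : Nat.card (HH) = Nat.card K := card_subgroupOf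
  have hKp : IsPGroup p K := P.isPGroup'
  have hH : IsPGroup p (HH) := by
    obtain ⟨n, hn⟩ := IsPGroup.iff_card.mp hKp
    exact IsPGroup.of_card (n := n) (by rw [hcardH, hn])
  have hoddH : Odd (Nat.card (HH)) := by
    obtain ⟨n, hn⟩ := IsPGroup.iff_card.mp hKp
    rw [hcardH, hn]
    exact Odd.pow (hpp.odd_of_ne_two hp)
  have hodd : Odd (Nat.card NN) :=
    odd_of_nonabelian hN hC' hoddH (fun h => hna (isMulCommutative_subgroupOf_iff.mp h))
  have hK1 : K ≠ ⊥ := by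
    rintro h
    apply hna
    refine ⟨⟨fun a b => ?_⟩⟩
    have h1 : ∀ c : K, c = 1 := by
      intro c
      apply Subtype.ext
      exact (Subgroup.eq_bot_iff_forall _).mp h c c.2
    rw [h1 a, h1 b]
  have hZ := centralData_center P hK1
  set Z := (Subgroup.center K).map (Subgroup.subtype K) with hZdef
  have hZ'H := hZ.subgroupOf_le
  have hZ'n := hZ.subgroupOf_normal
  have hZ'c := hZ.subgroupOf_comm
  have hZ'1 := hZ.subgroupOf_ne_bot
  obtain ⟨θ₀, hθ₀, h₀, hθmin⟩ := exists_min hZ'H hZ'c hZ'1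
  set e := (HH).index with he
  set f₀ := charDegree θ₀ with hf₀
  set T₀ : Finset (NN → ℂ) := (nontrivOn HH).filter (fun χ => e * f₀ ≤ charDegree χ) with hT₀
  have hT₀S : T₀ ⊆ nontrivOn HH := Finset.filter_subset _ _
  have hZS : nontrivOn (Z.subgroupOf NN) ⊆ nontrivOn HH := by
    intro χ hχ
    obtain ⟨h1, z, hz, h2⟩ := mem_nontrivOn.mp hχ
    exact mem_nontrivOn.mpr ⟨h1, z, hZ'H hz, h2⟩
  have hZT₀ : nontrivOn (Z.subgroupOf NN) ⊆ T₀ := by
    intro χ hχ
    refine Finset.mem_filter.mpr ⟨hZS hχ, ?_⟩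
    obtain ⟨θ, hθ, -, rfl⟩ := exists_ind hN hC' (hZS hχ)
    rw [charDegree_ind (isCharacter_of_isIrrCharacter hθ)]
    apply Nat.mul_le_mul_left
    exact hθmin θ hθ ((ind_nontriv_iff hN hZ'n hZ'H hθ).mp (mem_nontrivOn.mp hχ).2)
  have hT₀c : ∀ χ ∈ T₀, conjFun χ ∈ T₀ := by
    intro χ hχ
    obtain ⟨h1, h2⟩ := Finset.mem_filter.mp hχ
    refine Finset.mem_filter.mpr ⟨conj_mem_nontrivOn h1, ?_⟩
    rwa [deg_conj (isCharacter_of_isIrrCharacter (mem_nontrivOn.mp h1).1)]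
  obtain ⟨hiso₀, hiso₀1⟩ := iso_ind hTI hC (Q := (↑T₀ : Set (NN → ℂ))) (fun χ hχ => hT₀S hχ)
  have hcoh₀ : IsCoherent (↑T₀ : Set (NN → ℂ)) {1}ᶜ (fun α => indFun NN α) :=
    coherent_of_min hN hC' hZ'n hZ'H hZ'c hpp hp3 hH hodd hθ₀ h₀ T₀ hT₀S hZT₀ hT₀c
      (fun χ hχ => (Finset.mem_filter.mp hχ).2) _ hiso₀ hiso₀1
  -- the character `η₀`
  have hθ₀1 : θ₀ ≠ fun _ => 1 := by
    rintro rfl
    apply h₀
    funext z
    simp [cc]
  have hη₀S : indFun HH θ₀ ∈ nontrivOn HH := ind_mem hN hC' hθ₀ hθ₀1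
  have hdegη₀ : charDegree (indFun HH θ₀) = e * f₀ :=
    charDegree_ind (isCharacter_of_isIrrCharacter hθ₀)
  have hη₀T₀ : indFun HH θ₀ ∈ T₀ := Finset.mem_filter.mpr ⟨hη₀S, hdegη₀.ge⟩
  -- the induction
  have main : ∀ n : ℕ, ∀ T : Finset (NN → ℂ), (nontrivOn HH \ T).card = n → T₀ ⊆ T →
      T ⊆ nontrivOn HH → (∀ η ∈ T, conjFun η ∈ T) →
      IsCoherent (↑T : Set (NN → ℂ)) {1}ᶜ (fun α => indFun NN α) →
      IsCoherent (↑(nontrivOn HH) : Set (NN → ℂ)) {1}ᶜ (fun α => indFun NN α) := by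
    intro n
    induction n using Nat.strong_induction_on with
    | _ n ih =>
      intro T hn hT₀T hTS hTc hcoh
      by_cases hsd : nontrivOn HH \ T = ∅
      · have hTeq : T = nontrivOn HH :=
          Finset.Subset.antisymm hTS (Finset.sdiff_eq_empty_iff_subset.mp hsd)
        rwa [← hTeq]
      · obtain ⟨χ, hχ⟩ := Finset.nonempty_iff_ne_empty.mpr hsd
        obtain ⟨hχS, hχT⟩ := Finset.mem_sdiff.mp hχ
        have hχT₀ : χ ∉ T₀ := fun h => hχT (hT₀T h)
        have hdeg : charDegree χ < e * f₀ := by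
          by_contra hle
          exact hχT₀ (Finset.mem_filter.mpr ⟨hχS, not_lt.mp hle⟩)
        have hdvd : charDegree χ ∣ charDegree (indFun HH θ₀) := by
          obtain ⟨θ, hθ, -, hχeq⟩ := exists_ind hN hC' hχS
          rw [hχeq, charDegree_ind (isCharacter_of_isIrrCharacter hθ)] at hdeg ⊢
          rw [hdegη₀]
          have h1 : charDegree θ < f₀ := Nat.lt_of_mul_lt_mul_left hdeg
          exact Nat.mul_dvd_mul_left _ (deg_dvd hpp hH hθ hθ₀ h1.le)
        have hcoh' := extend_pair P hTI hodd hC hZ T hTS hTc (hZT₀.trans hT₀T) hcoh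
          (hT₀T hη₀T₀) hχS hχT hdvd
        have hχ'S := conj_mem_nontrivOn hχS
        set T' : Finset (NN → ℂ) := insert χ (insert (conjFun χ) T) with hT'
        have hT'set : (↑T' : Set (NN → ℂ)) = ↑T ∪ {χ, conjFun χ} := by
          ext ξ
          simp only [hT', Finset.coe_insert, Set.mem_insert_iff, Finset.mem_coe, Set.mem_union,
            Set.mem_singleton_iff]
          tauto
        have hlt : (nontrivOn HH \ T').card < n := by
          rw [← hn]
          apply Finset.card_lt_card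
          refine ⟨?_, ?_⟩
          · intro ξ hξ
            obtain ⟨h1, h2⟩ := Finset.mem_sdiff.mp hξ
            refine Finset.mem_sdiff.mpr ⟨h1, fun h3 => h2 ?_⟩
            exact Finset.mem_insert_of_mem (Finset.mem_insert_of_mem h3)
          · intro h
            have h1 := h hχ
            exact (Finset.mem_sdiff.mp h1).2 (Finset.mem_insert_self _ _)
        refine ih _ hlt T' rfl ?_ ?_ ?_ ?_
        · intro ξ hξ
          exact Finset.mem_insert_of_mem (Finset.mem_insert_of_mem (hT₀T hξ))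
        · intro ξ hξ
          rcases Finset.mem_insert.mp hξ with h | hξ
          · rw [h]
            exact hχS
          rcases Finset.mem_insert.mp hξ with h | hξ
          · rw [h]
            exact hχ'S
          exact hTS hξ
        · intro ξ hξ
          rcases Finset.mem_insert.mp hξ with h | hξ
          · rw [h]
            exact Finset.mem_insert_of_mem (Finset.mem_insert_self _ _)
          rcases Finset.mem_insert.mp hξ with h | hξ
          · rw [h, Cfsg.Agent.Lib.Coh.System.conj_conj]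
            exact Finset.mem_insert_self _ _
          exact Finset.mem_insert_of_mem (Finset.mem_insert_of_mem (hTc ξ hξ))
        · rw [hT'set]
          exact hcoh'
  exact main _ T₀ rfl (Finset.Subset.refl _) hT₀S hT₀c hcoh₀

end Cfsg.Agent.Lib.Coh.Sibley
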