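import Cfsg.Agent.Lib.Coh.Sibley
import Cfsg.Agent.Lib.Coh.FrobCard
import Cfsg.Agent.Lib.Coh.FeitThm
import Cfsg.Agent.Lib.Coh.KernelNil

/-!
# The theorems of Feit and Sibley on coherence for TI subgroups with Frobenius normalizer
-/

set_option autoImplicit false

namespace Cfsg.Agent.Lib.Coh.SibleyMain

open Cfsg
open Cfsg.Agent.Lib.Char.Ortho Cfsg.Agent.Lib.Char.Basic Cfsg.Agent.Lib.Char.Complete
  Cfsg.Agent.Lib.Char.Degree Cfsg.Agent.Lib.Char.Induced Cfsg.Agent.Lib.Coh.Basic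
  Cfsg.Agent.Lib.Char.GenLattice Cfsg.Agent.Lib.Coh.DegSum Cfsg.Agent.Lib.Coh.FrobDeg
  Cfsg.Agent.Lib.Coh.SylowCentral Cfsg.Agent.Lib.CharDeep.TIFNRel Cfsg.Agent.Lib.Coh.FrobCard

/-- The index of the commutator subgroup is invariant under isomorphisms. -/
theorem index_commutator_of_equiv {A B : Type*} [Group A] [Group B] (φ : A ≃* B) :
    (commutator A).index = (commutator B).index := by
  have h1 : (commutator A).map (φ : A →* B) = commutator B := by
    rw [commutator_def, Subgroup.map_commutator, commutator_def]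
    have h2 : (⊤ : Subgroup A).map (φ : A →* B) = ⊤ := by
      rw [← MonoidHom.range_eq_map]
      exact MonoidHom.range_eq_top.mpr φ.surjective
    rw [h2]
  rw [← h1, Subgroup.index_map_equiv]

theorem commutator_subgroupOf {G : Type*} [Group G] (K : Subgroup G) :
    ⁅K, K⁆.subgroupOf K = commutator K := by
  have h2 := Subgroup.map_subtype_commutator K
  rw [← h2]
  ext x
  simp [Subgroup.mem_subgroupOf]

variable {G : Type*} [Group G] [Fintype G] {K : Subgroup G}

theorem subgroupOf_ne_bot (hK : K ≠ ⊥) : K.subgroupOf (Subgroup.normalizer (K : Set G)) ≠ ⊥ := by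
  intro h
  apply hK
  rw [eq_bot_iff]
  intro k hk
  have h1 : (⟨k, Subgroup.le_normalizer hk⟩ : Subgroup.normalizer (K : Set G)) ∈
      K.subgroupOf (Subgroup.normalizer (K : Set G)) := by
    rw [Subgroup.mem_subgroupOf]
    exact hk
  rw [h, Subgroup.mem_bot] at h1
  rw [Subgroup.mem_bot]
  exact congrArg Subtype.val h1

theorem subgroupOf_ne_top (hlt : K < Subgroup.normalizer (K : Set G)) :
    K.subgroupOf (Subgroup.normalizer (K : Set G)) ≠ ⊤ := by
  intro h
  obtain ⟨x, hx, hxK⟩ := SetLike.exists_of_lt hlt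
  have h1 : (⟨x, hx⟩ : Subgroup.normalizer (K : Set G)) ∈
      K.subgroupOf (Subgroup.normalizer (K : Set G)) := by
    rw [h]
    exact Subgroup.mem_top _
  rw [Subgroup.mem_subgroupOf] at h1
  exact hxK h1

theorem equiv_subgroupOf (K : Subgroup G) :
    Nonempty (K.subgroupOf (Subgroup.normalizer (K : Set G)) ≃* K) :=
  ⟨Subgroup.subgroupOfEquivOfLe Subgroup.le_normalizer⟩

variable [Fintype ↥(Subgroup.normalizer (K : Set G))]

/-- The case `|K| = e + 1`. -/
theorem card_case (hK1 : K ≠ ⊥) (hC : ∀ k ∈ K, k ≠ 1 → Subgroup.centralizer ({k} : Set G) ≤ K)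
    (he : Nat.card K = (K.subgroupOf (Subgroup.normalizer (K : Set G))).index + 1) :
    (nontrivOn (K.subgroupOf (Subgroup.normalizer (K : Set G)))).card = 1 ∧ IsMulCommutative K ∧
      ∃ q : ℕ, q.Prime ∧ q ∣ Nat.card K ∧ ∀ k ∈ K, k ^ q = 1 := by
  have hN : (K.subgroupOf (Subgroup.normalizer (K : Set G))).Normal := normal_H
  have hC' := centralizer_H hC
  have he' : Nat.card (K.subgroupOf (Subgroup.normalizer (K : Set G))) =
      (K.subgroupOf (Subgroup.normalizer (K : Set G))).index + 1 := by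
    rw [card_subgroupOf, he]
  refine ⟨card_nontrivOn hN hC' he', ?_⟩
  obtain ⟨h1, q, hq, hqd, h2⟩ := elementary hN hC' (subgroupOf_ne_bot hK1) he'
  refine ⟨isMulCommutative_subgroupOf_iff.mp h1, q, hq, ?_, ?_⟩
  · rwa [card_subgroupOf] at hqd
  · intro k hk
    have h3 : (⟨k, Subgroup.le_normalizer hk⟩ : Subgroup.normalizer (K : Set G)) ∈
        K.subgroupOf (Subgroup.normalizer (K : Set G)) := by
      rw [Subgroup.mem_subgroupOf]
      exact hk
    have h4 := h2 _ h3
    exact congrArg Subtype.val h4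

/-- The case `|K| ≠ e + 1`, by Feit's theorem. -/
theorem feit_case (hK1 : K ≠ ⊥) (hlt : K < Subgroup.normalizer (K : Set G))
    (hTI : IsTISubset (K : Set G))
    (hC : ∀ k ∈ K, k ≠ 1 → Subgroup.centralizer ({k} : Set G) ≤ K)
    (he : Nat.card K ≠ (K.subgroupOf (Subgroup.normalizer (K : Set G))).index + 1) :
    IsCoherent (↑(nontrivOn (K.subgroupOf (Subgroup.normalizer (K : Set G)))) :
        Set (↥(Subgroup.normalizer (K : Set G)) → ℂ)) {1}ᶜ
        (fun α => indFun (Subgroup.normalizer (K : Set G)) α) ∨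
      ∃ q : ℕ, q.Prime ∧ (∃ m : ℕ, Nat.card K = q ^ m) ∧ ¬ IsMulCommutative K ∧
        (commutator K).index ≤
          4 * (K.subgroupOf (Subgroup.normalizer (K : Set G))).index ^ 2 + 1 := by
  have hN : (K.subgroupOf (Subgroup.normalizer (K : Set G))).Normal := normal_H
  have hC' := centralizer_H hC
  have hH1 := subgroupOf_ne_bot hK1
  have hH2 := subgroupOf_ne_top hlt
  have hnil := Cfsg.Agent.Lib.Coh.KernelNil.nilpotent_kernel hN hH2 hC'
  have he' : Nat.card (K.subgroupOf (Subgroup.normalizer (K : Set G))) ≠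
      (K.subgroupOf (Subgroup.normalizer (K : Set G))).index + 1 := by
    rwa [card_subgroupOf]
  obtain ⟨hiso, hiso1⟩ := iso_ind hTI hC (Q := ↑(nontrivOn (K.subgroupOf
    (Subgroup.normalizer (K : Set G))))) (fun χ hχ => hχ)
  rcases Cfsg.Agent.Lib.Coh.FeitThm.feit_thm hN hH1 hC' hnil he' _ hiso hiso1 with h | ⟨q, hq, ⟨m, hm⟩, hab, hidx⟩
  · exact Or.inl h
  · refine Or.inr ⟨q, hq, ⟨m, ?_⟩, fun h => hab (isMulCommutative_subgroupOf_iff.mpr h), ?_⟩
    · rwa [card_subgroupOf] at hm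
    · obtain ⟨φ⟩ := equiv_subgroupOf K
      rwa [index_commutator_of_equiv φ] at hidx

/-- A nontrivial `p`-subgroup containing the centralizers of its non-identity elements is Sylow. -/
theorem exists_sylow_eq {p : ℕ} [Fact p.Prime] (hKp : IsPGroup p K) (hK1 : K ≠ ⊥)
    (hC : ∀ k ∈ K, k ≠ 1 → Subgroup.centralizer ({k} : Set G) ≤ K) :
    ∃ Q : Sylow p G, (Q : Subgroup G) = K := by
  obtain ⟨Q, hQ⟩ := hKp.exists_le_sylow
  refine ⟨Q, le_antisymm ?_ hQ⟩
  obtain ⟨k, hk⟩ := Subgroup.ne_bot_iff_exists_ne_one.mp hK1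
  have hk1 : (k : G) ≠ 1 := fun h => hk (Subtype.ext h)
  haveI : Nontrivial (Q : Subgroup G) :=
    Subgroup.nontrivial_iff_ne_bot _ |>.mpr (fun h => hK1 (le_bot_iff.mp (h ▸ hQ)))
  have h1 := IsPGroup.center_nontrivial (p := p) (G := (Q : Subgroup G)) Q.isPGroup'
  obtain ⟨z, hz⟩ := exists_ne (1 : Subgroup.center (Q : Subgroup G))
  have hz1 : (((z : (Q : Subgroup G))) : G) ≠ 1 := by
    intro h
    apply hz
    apply Subtype.ext
    apply Subtype.ext
    exact h
  have hzc := Subgroup.mem_center_iff.mp z.2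
  have hzK : ((z : (Q : Subgroup G)) : G) ∈ K := by
    apply hC (k : G) k.2 hk1
    rw [Subgroup.mem_centralizer_singleton_iff]
    have := hzc ⟨k, hQ k.2⟩
    exact (congrArg Subtype.val this).symm
  have hQC : (Q : Subgroup G) ≤ Subgroup.centralizer ({((z : (Q : Subgroup G)) : G)} : Set G) := by
    intro x hx
    rw [Subgroup.mem_centralizer_singleton_iff]
    have := hzc ⟨x, hx⟩
    exact congrArg Subtype.val this
  exact hQC.trans (hC _ hzK hz1)

/-- The arithmetic for the `2`-group case. -/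
theorem two_arith {r e : ℕ} (he1 : 1 < e) (heo : Odd e) (h : 2 ^ r ≤ 4 * e ^ 2 + 1) : 2 ^ r < 4 * e ^ 2 := by
  rcases Nat.lt_or_ge (2 ^ r) (4 * e ^ 2) with h1 | h1
  · exact h1
  · exfalso
    have h2 : 2 ^ r = 4 * e ^ 2 ∨ 2 ^ r = 4 * e ^ 2 + 1 := by omega
    rcases h2 with h2 | h2
    · have h3 : e ∣ 2 ^ r := by
        rw [h2]
        exact Dvd.dvd.mul_left (dvd_pow_self e (by norm_num)) 4
      obtain ⟨s, -, hs⟩ := (Nat.dvd_prime_pow Nat.prime_two).mp h3
      rw [hs] at heo he1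
      rcases s with _ | s
      · simp at he1
      · rw [pow_succ] at heo
        exact (Nat.not_even_iff_odd.mpr heo) (even_iff_two_dvd.mpr (Dvd.intro_left _ rfl))
    · rcases r with _ | r
      · simp at h2
        omega
      · rw [pow_succ] at h2
        omega

end Cfsg.Agent.Lib.Coh.SibleyMain
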