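import Cfsg.Agent.Lib.Coh.FrobCentral
import Cfsg.Agent.Lib.CharDeep.TIFNRel
import Cfsg.Agent.Lib.Char.IndSpan
import Cfsg.Agent.Lib.Char.FrobSchur
import Cfsg.Prelude.Def_OddOrderLocal

/-!
# Characters nontrivial on a central subgroup of a TI Sylow subgroup are coherent
-/

set_option autoImplicit false

namespace Cfsg.Agent.Lib.Coh.SylowCentral

open Cfsg
open Cfsg.Agent.Lib.Char.Ortho Cfsg.Agent.Lib.Char.Basic Cfsg.Agent.Lib.Char.Complete
  Cfsg.Agent.Lib.Char.Degree Cfsg.Agent.Lib.Char.Linear Cfsg.Agent.Lib.Char.Conj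
  Cfsg.Agent.Lib.Char.Induced Cfsg.Agent.Lib.Coh.Basic Cfsg.Agent.Lib.Char.GenLattice
  Cfsg.Agent.Lib.Coh.DegSum Cfsg.Agent.Lib.Coh.FrobDeg Cfsg.Agent.Lib.Coh.CentralChar
  Cfsg.Agent.Lib.Coh.FrobCentral Cfsg.Agent.Lib.Char.IndSpan
open scoped ComplexConjugate

/-- If a sum of complex numbers of norm at most `d` equals `card * d`, then all terms equal `d`. -/
theorem eq_of_sum_eq {ι : Type*} (s : Finset ι) (w : ι → ℂ) (d : ℝ) (hw : ∀ i ∈ s, ‖w i‖ ≤ d)
    (hsum : ∑ i ∈ s, w i = (s.card : ℂ) * d) : ∀ i ∈ s, w i = d := by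
  have h1 : ∑ i ∈ s, (d - (w i).re) = 0 := by
    have := congrArg Complex.re hsum
    rw [Complex.re_sum] at this
    rw [Finset.sum_sub_distrib, this]
    simp
  have h2 : ∀ i ∈ s, 0 ≤ d - (w i).re := fun i hi =>
    sub_nonneg.mpr ((Complex.re_le_norm _).trans (hw i hi))
  have h3 := (Finset.sum_eq_zero_iff_of_nonneg h2).mp h1
  intro i hi
  have h4 : (w i).re = d := by linarith [h3 i hi]
  have h5 : (w i).im = 0 := by
    have h6 := hw i hi
    have h7 : ‖w i‖ ^ 2 = (w i).re ^ 2 + (w i).im ^ 2 := by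
      rw [Complex.sq_norm, Complex.normSq_apply]
      ring
    have h8 : 0 ≤ d := (norm_nonneg _).trans h6
    have h9 : ‖w i‖ ^ 2 ≤ d ^ 2 := by
      gcongr
    rw [h7, h4] at h9
    nlinarith [sq_nonneg (w i).im]
  apply Complex.ext
  · simpa using h4
  · simpa using h5

variable {N : Type*} [Group N] [Fintype N] {H : Subgroup N}

/-- A Frobenius group with odd non-abelian kernel has odd order. -/
theorem odd_of_nonabelian (hN : H.Normal)
    (hC : ∀ h ∈ H, h ≠ 1 → Subgroup.centralizer ({h} : Set N) ≤ H) (hodd : Odd (Nat.card H))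
    (hna : ¬ IsMulCommutative H) : Odd (Nat.card N) := by
  classical
  by_contra hev
  rw [Nat.not_odd_iff_even, even_iff_two_dvd, Nat.card_eq_fintype_card] at hev
  obtain ⟨t, ht⟩ := exists_prime_orderOf_dvd_card 2 hev
  have htH : t ∉ H := by
    intro h
    have := Subgroup.orderOf_dvd_natCard H h
    rw [ht] at this
    exact (Nat.not_even_iff_odd.mpr hodd) (even_iff_two_dvd.mpr this)
  have ht2 : t * t = 1 := by rw [← sq, ← ht, pow_orderOf_eq_one]
  have htinv : t⁻¹ = t := inv_eq_of_mul_eq_one_left ht2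
  let φ : H →* H := (MulAut.conjNormal t).toMonoidHom
  have hφ : ∀ h : H, (φ h : N) = t * h * t⁻¹ := fun h => MulAut.conjNormal_apply t h
  have hfp : MonoidHom.FixedPointFree φ := by
    intro h hh
    by_contra h1
    apply htH
    have h2 : (h : N) ≠ 1 := fun h3 => h1 (Subtype.ext h3)
    apply hC h h.2 h2
    rw [Subgroup.mem_centralizer_singleton_iff]
    have h3 := congrArg Subtype.val hh
    rw [hφ, mul_inv_eq_iff_eq_mul] at h3
    exact h3
  have hinv : Function.Involutive φ := by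
    intro h
    apply Subtype.ext
    rw [hφ, hφ]
    calc t * (t * (h : N) * t⁻¹) * t⁻¹ = (t * t) * h * (t * t)⁻¹ := by group
      _ = h := by rw [ht2]; simp
  apply hna
  exact ⟨⟨fun a b => hfp.commute_all_of_involutive hinv a b⟩⟩

section Central

variable {Z : Subgroup N} (hN : H.Normal)
  (hC : ∀ h ∈ H, h ≠ 1 → Subgroup.centralizer ({h} : Set N) ≤ H)
  (hZn : Z.Normal) (hZH : Z ≤ H) (hZc : ∀ z ∈ Z, ∀ h ∈ H, z * h = h * z)

include hZc in
/-- Some irreducible character of `H` has nontrivial central character on `Z`. -/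
theorem exists_cc_ne_one (hZ1 : Z ≠ ⊥) :
    ∃ θ : H → ℂ, IsIrrCharacter H θ ∧ cc (Subgroup.inclusion hZH) θ ≠ fun _ => 1 := by
  classical
  letI : Fintype H := Fintype.ofFinite _
  obtain ⟨z, hz, hz1⟩ := (Subgroup.ne_bot_iff_exists_ne_one.mp hZ1 |>.imp fun a ha => ha) |>.elim
    (fun a ha => (⟨a, a.2, fun h => ha (Subtype.ext h)⟩ : ∃ z ∈ Z, z ≠ 1))
  by_contra hall
  push Not at hall
  have h1 := sum_deg_mul_value (X := H) ⟨z, hZH hz⟩
  rw [if_neg (fun h => hz1 (congrArg Subtype.val h))] at h1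
  have h2 : ∀ θ ∈ irrFinset H, (charDegree θ : ℂ) * θ ⟨z, hZH hz⟩ = ((charDegree θ ^ 2 : ℕ) : ℂ) := by
    intro θ hθ
    have hi := mem_irrFinset.mp hθ
    have h3 := congrFun (hall θ hi) ⟨z, hz⟩
    have h4 : θ ⟨z, hZH hz⟩ = θ 1 := by
      simp only [cc] at h3
      have h5 := (div_eq_one_iff_eq (deg_ne_zero hi)).mp h3
      exact h5
    rw [h4, ← charDegree_natCast (isCharacter_of_isIrrCharacter hi)]
    push_cast
    ring
  rw [Finset.sum_congr rfl h2, ← Nat.cast_sum, sum_irrFinset_sq] at h1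
  exact (Nat.cast_ne_zero.mpr Nat.card_pos.ne') h1

include hZc in
/-- A minimal-degree irreducible character with nontrivial central character. -/
theorem exists_min (hZ1 : Z ≠ ⊥) :
    ∃ θ₀ : H → ℂ, IsIrrCharacter H θ₀ ∧ cc (Subgroup.inclusion hZH) θ₀ ≠ (fun _ => 1) ∧
      ∀ θ : H → ℂ, IsIrrCharacter H θ → cc (Subgroup.inclusion hZH) θ ≠ (fun _ => 1) →
        charDegree θ₀ ≤ charDegree θ := by
  classical
  obtain ⟨θ₁, h1, h2⟩ := exists_cc_ne_one hZH hZc hZ1
  obtain ⟨θ₀, h3, h4⟩ := Finset.exists_min_image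
    ((irrFinset H).filter (fun θ => cc (Subgroup.inclusion hZH) θ ≠ fun _ => 1)) charDegree
    ⟨θ₁, Finset.mem_filter.mpr ⟨mem_irrFinset.mpr h1, h2⟩⟩
  obtain ⟨h5, h6⟩ := Finset.mem_filter.mp h3
  exact ⟨θ₀, mem_irrFinset.mp h5, h6, fun θ h7 h8 =>
    h4 θ (Finset.mem_filter.mpr ⟨mem_irrFinset.mpr h7, h8⟩)⟩

include hN hZn in
/-- `θ^N` is nontrivial on `Z` iff the central character of `θ` is nontrivial. -/
theorem ind_nontriv_iff {θ : H → ℂ} (hθ : IsIrrCharacter H θ) :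
    (∃ z ∈ Z, indFun H θ z ≠ indFun H θ 1) ↔ cc (Subgroup.inclusion hZH) θ ≠ fun _ => 1 := by
  classical
  letI : Fintype H := Fintype.ofFinite _
  have hval : ∀ z (hz : z ∈ Z), indFun H θ z =
      (Nat.card H : ℂ)⁻¹ * ∑ x : N, conjOn hN x⁻¹ θ ⟨z, hZH hz⟩ := fun z hz =>
    indFun_apply_of_normal hN θ ⟨z, hZH hz⟩
  have hval1 : indFun H θ 1 = (Nat.card H : ℂ)⁻¹ * ∑ _x : N, θ 1 := by
    have := indFun_apply_of_normal hN θ (1 : H)
    simp only [Subgroup.coe_one] at this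
    rw [this]
    congr 1
    refine Finset.sum_congr rfl fun x _ => ?_
    simp only [conjOn_apply]
    congr 1
    apply Subtype.ext
    simp
  have hH0 : (Nat.card H : ℂ) ≠ 0 := Nat.cast_ne_zero.mpr Nat.card_pos.ne'
  constructor
  · rintro ⟨z, hz, hne⟩ h
    apply hne
    rw [hval z hz, hval1]
    congr 1
    refine Finset.sum_congr rfl fun x _ => ?_
    simp only [conjOn_apply]
    have hm : x⁻¹ * z * x⁻¹⁻¹ ∈ Z := hZn.conj_mem z hz x⁻¹
    have h1 := congrFun h ⟨_, hm⟩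
    simp only [cc] at h1
    exact (div_eq_one_iff_eq (deg_ne_zero hθ)).mp h1
  · intro h
    obtain ⟨z₀, hz₀⟩ : ∃ z₀ : Z, cc (Subgroup.inclusion hZH) θ z₀ ≠ 1 := by
      by_contra hall
      push Not at hall
      exact h (funext hall)
    refine ⟨z₀, z₀.2, fun he => hz₀ ?_⟩
    rw [hval z₀ z₀.2, hval1] at he
    have he' := mul_left_cancel₀ (inv_ne_zero hH0) he
    have hd : θ 1 = ((charDegree θ : ℝ) : ℂ) := by
      rw [← charDegree_natCast (isCharacter_of_isIrrCharacter hθ)]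
      simp
    have hb : ∀ x ∈ (Finset.univ : Finset N), ‖conjOn hN x⁻¹ θ ⟨z₀, hZH z₀.2⟩‖ ≤ (charDegree θ : ℝ) := by
      intro x _
      simp only [conjOn_apply]
      exact norm_le_charDegree (isCharacter_of_isIrrCharacter hθ) _
    have hs : ∑ x : N, conjOn hN x⁻¹ θ ⟨z₀, hZH z₀.2⟩ =
        ((Finset.univ : Finset N).card : ℂ) * ((charDegree θ : ℝ) : ℂ) := by
      rw [he', Finset.sum_const, hd]
      simp
    have h1 := eq_of_sum_eq _ _ _ hb hs 1 (Finset.mem_univ _)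
    rw [← hd] at h1
    simp only [conjOn_apply] at h1
    simp only [cc]
    rw [div_eq_one_iff_eq (deg_ne_zero hθ)]
    convert h1 using 2
    apply Subtype.ext
    simp

include hN hC hZn hZc in
/-- Coherence: the minimal-degree version. -/
theorem coherent_of_min {G : Type*} [Group G] [Fintype G] {p : ℕ} (hp : p.Prime) (hp3 : 3 ≤ p)
    (hH : IsPGroup p H) (hodd : Odd (Nat.card N)) {θ₀ : H → ℂ} (hθ₀ : IsIrrCharacter H θ₀)
    (h₀ : cc (Subgroup.inclusion hZH) θ₀ ≠ fun _ => 1) (Q : Finset (N → ℂ))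
    (hQS : Q ⊆ nontrivOn H) (hZQ : nontrivOn Z ⊆ Q) (hQc : ∀ χ ∈ Q, conjFun χ ∈ Q)
    (hmin : ∀ χ ∈ Q, H.index * charDegree θ₀ ≤ charDegree χ)
    (τ : (N → ℂ) → (G → ℂ)) (hτ : IsLinearIsometryOn (zspanOn (↑Q : Set (N → ℂ)) {1}ᶜ) τ)
    (hτ1 : ∀ α ∈ zspanOn (↑Q : Set (N → ℂ)) {1}ᶜ, τ α 1 = 0) :
    IsCoherent (↑Q : Set (N → ℂ)) {1}ᶜ τ := by
  have hQ : ∀ θ : H → ℂ, IsIrrCharacter H θ →
      cc (Subgroup.inclusion hZH) θ = cc (Subgroup.inclusion hZH) θ₀ → indFun H θ ∈ Q := by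
    intro θ hθ hcc
    apply hZQ
    have h1 : cc (Subgroup.inclusion hZH) θ ≠ fun _ => 1 := by rwa [hcc]
    have hθ1 : θ ≠ fun _ => 1 := by
      rintro rfl
      apply h1
      funext z
      simp [cc]
    exact mem_nontrivOn.mpr ⟨isIrr_ind hN hC hθ hθ1, (ind_nontriv_iff hN hZn hZH hθ).mpr h1⟩
  exact coherent_of_central hN hC hZn hZH hZc hp hp3 hH hodd hθ₀ h₀ Q hQS hQ
    (hQc _ (hQ θ₀ hθ₀ rfl)) hmin τ hτ hτ1

end Central

section GLevel

open Cfsg.Agent.Lib.CharDeep.TIFNRel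

variable {G : Type*} [Group G] [Fintype G] {K : Subgroup G}

theorem isGenChar_of_mem_zspan_nontriv {N : Type*} [Group N] [Fintype N] {H : Subgroup N}
    {α : N → ℂ} (hα : α ∈ zspan (↑(nontrivOn H) : Set (N → ℂ))) : IsGeneralizedCharacter N α :=
  zspan_genChar hα

variable [Fintype ↥(Subgroup.normalizer (K : Set G))]

/-- Induction is an isometry on the degree zero part of the span of a set of relevant characters. -/
theorem iso_ind (hTI : IsTISubset (K : Set G))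
    (hC : ∀ k ∈ K, k ≠ 1 → Subgroup.centralizer ({k} : Set G) ≤ K)
    {Q : Set (↥(Subgroup.normalizer (K : Set G)) → ℂ)}
    (hQ : Q ⊆ ↑(nontrivOn (K.subgroupOf (Subgroup.normalizer (K : Set G))))) :
    IsLinearIsometryOn (zspanOn Q {1}ᶜ) (fun α => indFun (Subgroup.normalizer (K : Set G)) α) ∧
      ∀ α ∈ zspanOn Q {1}ᶜ, indFun (Subgroup.normalizer (K : Set G)) α 1 = 0 := by
  have hsub : zspanOn Q ({1}ᶜ : Set _) ⊆ zspanOn (↑(nontrivOn (K.subgroupOf
      (Subgroup.normalizer (K : Set G)))) : Set (_ → ℂ)) {1}ᶜ := zspanOn_mono _ hQ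
  refine ⟨⟨?_, ?_, ?_, ?_⟩, ?_⟩
  · intro a _ b _
    exact indFun_add _ a b
  · intro a _ n
    have h1 : n • a = (n : ℂ) • a := by
      rw [Int.cast_smul_eq_zsmul]
    have h2 : n • indFun (Subgroup.normalizer (K : Set G)) a =
        (n : ℂ) • indFun (Subgroup.normalizer (K : Set G)) a := by
      rw [Int.cast_smul_eq_zsmul]
    simp only [h1, h2, indFun_smul]
  · intro a ha b hb
    exact inner_indFun hTI hC (hsub ha) (hsub hb).1
  · intro a ha
    exact isGenChar_indFun _ (zspan_genChar (hsub ha).1)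
  · intro a ha
    rw [indFun_one, (mem_zspanOn_compl_one.mp ha).2, mul_zero]

/-- The kernel in the normalizer. -/
theorem card_subgroupOf : Nat.card (K.subgroupOf (Subgroup.normalizer (K : Set G))) = Nat.card K :=
  Nat.card_congr (Subgroup.subgroupOfEquivOfLe Subgroup.le_normalizer).toEquiv

theorem isMulCommutative_subgroupOf_iff :
    IsMulCommutative (K.subgroupOf (Subgroup.normalizer (K : Set G))) ↔ IsMulCommutative K := by
  have e := Subgroup.subgroupOfEquivOfLe (G := G) (H := K)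
    (K := Subgroup.normalizer (K : Set G)) Subgroup.le_normalizer
  constructor
  · intro h
    refine ⟨⟨fun a b => ?_⟩⟩
    have h1 := h.is_comm.comm (e.symm a) (e.symm b)
    have h2 := congrArg e h1
    simpa using h2
  · intro h
    refine ⟨⟨fun a b => ?_⟩⟩
    have h1 := h.is_comm.comm (e a) (e b)
    apply e.injective
    simpa using h1

/-- The subgroup `Z` inside the normalizer. -/
theorem coherent_central {p : ℕ} (hp : p.Prime) (hp3 : 3 ≤ p) (hKp : IsPGroup p K)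
    (hTI : IsTISubset (K : Set G)) (hna : ¬ IsMulCommutative K)
    (hC : ∀ k ∈ K, k ≠ 1 → Subgroup.centralizer ({k} : Set G) ≤ K)
    (Z : Subgroup G) (hZ1 : Z ≠ ⊥) (hZP : ∀ z ∈ Z, z ∈ K ∧ ∀ y ∈ K, z * y = y * z)
    (hZn : ∀ x ∈ Subgroup.normalizer (K : Set G), ∀ z ∈ Z, x * z * x⁻¹ ∈ Z) :
    IsCoherent {χ : ↥(Subgroup.normalizer (K : Set G)) → ℂ | IsIrrCharacter _ χ ∧
      ∃ z : ↥(Subgroup.normalizer (K : Set G)), (z : G) ∈ Z ∧ χ z ≠ χ 1} {1}ᶜ
      (fun α => indFun (Subgroup.normalizer (K : Set G)) α) := by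
  classical
  haveI : Fact p.Prime := ⟨hp⟩
  set H := K.subgroupOf (Subgroup.normalizer (K : Set G)) with hHdef
  have hN : H.Normal := normal_H
  have hC' := centralizer_H hC
  have hcardH : Nat.card H = Nat.card K := card_subgroupOf
  have hH : IsPGroup p H := by
    obtain ⟨n, hn⟩ := IsPGroup.iff_card.mp hKp
    exact IsPGroup.of_card (n := n) (by rw [hcardH, hn])
  have hoddH : Odd (Nat.card H) := by
    obtain ⟨n, hn⟩ := IsPGroup.iff_card.mp hKp
    rw [hcardH, hn]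
    exact Odd.pow (hp.odd_of_ne_two (by omega))
  have hodd : Odd (Nat.card (Subgroup.normalizer (K : Set G))) :=
    odd_of_nonabelian hN hC' hoddH (fun h => hna (isMulCommutative_subgroupOf_iff.mp h))
  set Z' := Z.subgroupOf (Subgroup.normalizer (K : Set G)) with hZ'
  have hZ'H : Z' ≤ H := by
    intro z hz
    rw [hZ', Subgroup.mem_subgroupOf] at hz
    rw [hHdef, Subgroup.mem_subgroupOf]
    exact (hZP _ hz).1
  have hZ'n : Z'.Normal := by
    refine ⟨fun z hz x => ?_⟩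
    rw [hZ', Subgroup.mem_subgroupOf] at hz ⊢
    exact hZn _ x.2 _ hz
  have hZ'c : ∀ z ∈ Z', ∀ h ∈ H, z * h = h * z := by
    intro z hz h hh
    rw [hZ', Subgroup.mem_subgroupOf] at hz
    rw [hHdef, Subgroup.mem_subgroupOf] at hh
    apply Subtype.ext
    exact (hZP _ hz).2 _ hh
  have hZ'1 : Z' ≠ ⊥ := by
    intro h
    apply hZ1
    rw [eq_bot_iff]
    intro z hz
    have hzK := (hZP z hz).1
    have h1 : (⟨z, Subgroup.le_normalizer hzK⟩ : Subgroup.normalizer (K : Set G)) ∈ Z' := by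
      rw [hZ', Subgroup.mem_subgroupOf]
      exact hz
    rw [h, Subgroup.mem_bot] at h1
    rw [Subgroup.mem_bot]
    exact congrArg Subtype.val h1
  obtain ⟨θ₀, hθ₀, h₀, hθmin⟩ := exists_min hZ'H hZ'c hZ'1
  have hset : {χ : ↥(Subgroup.normalizer (K : Set G)) → ℂ | IsIrrCharacter _ χ ∧ ∃ z : ↥(Subgroup.normalizer (K : Set G)), (z : G) ∈ Z ∧ χ z ≠ χ 1} =
      ↑(nontrivOn Z') := by
    ext χ
    rw [Finset.mem_coe, mem_nontrivOn]
    simp only [hZ', Subgroup.mem_subgroupOf]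
    rfl
  rw [hset]
  have hQS : nontrivOn Z' ⊆ nontrivOn H := by
    intro χ hχ
    obtain ⟨h1, z, hz, h2⟩ := mem_nontrivOn.mp hχ
    exact mem_nontrivOn.mpr ⟨h1, z, hZ'H hz, h2⟩
  obtain ⟨hiso, hiso1⟩ := iso_ind (K := K) hTI hC (Q := ↑(nontrivOn Z')) (by
    intro χ hχ
    exact hQS hχ)
  refine coherent_of_min hN hC' hZ'n hZ'H hZ'c hp hp3 hH hodd hθ₀ h₀ (nontrivOn Z') hQS
    (Finset.Subset.refl _) ?_ ?_ _ hiso hiso1
  · intro χ hχ
    obtain ⟨h1, z, hz, h2⟩ := mem_nontrivOn.mp hχ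
    refine mem_nontrivOn.mpr ⟨Cfsg.Agent.Lib.Char.FrobSchur.isIrr_conj h1, z, hz, ?_⟩
    intro h3
    apply h2
    have := congrArg (starRingEnd ℂ) h3
    simpa [conjFun] using this
  · intro χ hχ
    obtain ⟨θ, hθ, -, rfl⟩ := exists_ind hN hC' (hQS hχ)
    rw [charDegree_ind (isCharacter_of_isIrrCharacter hθ)]
    apply Nat.mul_le_mul_left
    apply hθmin θ hθ
    exact (ind_nontriv_iff hN hZ'n hZ'H hθ).mp (mem_nontrivOn.mp hχ).2

end GLevel

end Cfsg.Agent.Lib.Coh.SylowCentral
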